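import Groth.Agent.H24DefTan.Lift
import Groth.Agent.H06Lift.SheafHom
import Groth.Agent.H06Lift.Chart

/-!
# Differences of lifts are sections of the sheaf of derivations
-/

set_option autoImplicit false
set_option linter.style.haveILetI false

universe u

open CategoryTheory CategoryTheory.Limits AlgebraicGeometry IsLocalRing ArtFun ArtFun.Art Opposite
open TopologicalSpace

noncomputable section

namespace Groth.Agent.H24DefTan

open Groth.Agent.H06Lift Groth.Agent.H10Coh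

variable {k : Type u} [Field k] {X Y : Scheme.{u}} {x : X ⟶ specPt k}
variable (q : Y ⟶ specPt k) (c : X ⟶ Y)

/-- The sheaf of derivations of `O_Y` with values in `O_X`. -/
abbrev G : X.Modules :=
  RefHull.homSh ((Scheme.Modules.pullback c).obj (Omega.sheaf q)) (Coh.structureModule X)

variable [QuasiSeparated q]

/-- The derivation given by a section, on the sections over `W`. -/
def val {P : X.Opens} (s : Γ(G q c, P)) (W : Y.Opens) (h : c ⁻¹ᵁ W ≤ P) : Γ(Y, W) →+ Γ(X, c ⁻¹ᵁ W) :=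
  (OmegaSh.fnSect X _).comp
    (evalChart (a₀ := c) (W := W) le_rfl
      (dRes h (homToDers c (OmegaSh.dOmega q) (Coh.structureModule X) P s)))

variable {q c}

theorem val_rM {P Q : X.Opens} (e : Q ≤ P) (s : Γ(G q c, P)) (W : Y.Opens) (h : c ⁻¹ᵁ W ≤ Q) :
    val q c ((G q c).presheaf.map (homOfLE e).op s) W h = val q c s W (h.trans e) := by
  show (OmegaSh.fnSect X _).comp (evalChart _ (dRes h (homToDers c (OmegaSh.dOmega q) _ Q (rM _ e s)))) = _
  rw [homToDers_res, dRes_dRes]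
  rfl

theorem val_add {P : X.Opens} (s t : Γ(G q c, P)) (W : Y.Opens) (h : c ⁻¹ᵁ W ≤ P) (r : Γ(Y, W)) :
    val q c (s + t) W h r = val q c s W h r + val q c t W h r := by
  simp only [val, map_add, AddMonoidHom.comp_apply]
  show OmegaSh.fnSect X _ (rM _ _ (((_ : Ders q c (Coh.structureModule X) _) + _).1 W r)) = _
  rw [AddSubgroup.coe_add, Pi.add_apply, AddMonoidHom.add_apply, map_add, map_add]
  rfl

theorem val_zero {P : X.Opens} (W : Y.Opens) (h : c ⁻¹ᵁ W ≤ P) (r : Γ(Y, W)) :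
    val q c (0 : Γ(G q c, P)) W h r = 0 := by
  have := val_add (0 : Γ(G q c, P)) 0 W h r
  rwa [add_zero, left_eq_add] at this

theorem val_neg {P : X.Opens} (s : Γ(G q c, P)) (W : Y.Opens) (h : c ⁻¹ᵁ W ≤ P) (r : Γ(Y, W)) :
    val q c (-s) W h r = -val q c s W h r := by
  rw [eq_neg_iff_add_eq_zero, ← val_add, neg_add_cancel, val_zero]

theorem val_sub {P : X.Opens} (s t : Γ(G q c, P)) (W : Y.Opens) (h : c ⁻¹ᵁ W ≤ P) (r : Γ(Y, W)) :
    val q c (s - t) W h r = val q c s W h r - val q c t W h r := by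
  rw [sub_eq_add_neg, val_add, val_neg, ← sub_eq_add_neg]

theorem val_mul {P : X.Opens} (s : Γ(G q c, P)) (W : Y.Opens) (h : c ⁻¹ᵁ W ≤ P) (a b : Γ(Y, W)) :
    val q c s W h (a * b) = c.app W a * val q c s W h b + c.app W b * val q c s W h a := by
  show OmegaSh.fnSect X _ (evalChart (a₀ := c) (W := W) le_rfl _ (a * b)) = _
  rw [evalChart_mul, map_add, ← Scheme.Hom.app_eq_appLE]
  rfl

theorem val_res {P : X.Opens} (s : Γ(G q c, P)) {W W' : Y.Opens} (e : W' ≤ W) (h : c ⁻¹ᵁ W ≤ P) (r : Γ(Y, W)) :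
    val q c s W' ((c.preimage_mono e).trans h) (r0 e r) = r0 (c.preimage_mono e) (val q c s W h r) := by
  let δ := homToDers c (OmegaSh.dOmega q) (Coh.structureModule X) P s
  show rM (Coh.structureModule X) _ (rM _ _ (δ.1 W' (rO Y e r))) =
    rM (Coh.structureModule X) (c.preimage_mono e) (rM _ _ (rM _ _ (δ.1 W r)))
  rw [δ.2.res, rM_rM, rM_rM, rM_rM, rM_rM]

theorem val_scalar {P : X.Opens} (s : Γ(G q c, P)) (W : Y.Opens) (h : c ⁻¹ᵁ W ≤ P) (a : k) :
    val q c s W h (H24Def.scalar q W a) = 0 := by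
  show OmegaSh.fnSect X _ (evalChart (a₀ := c) (W := W) le_rfl _ (H24Def.scalar q W a)) = 0
  have e : H24Def.scalar q W a = rO Y (le_top : W ≤ ⊤) (H24Def.scalar q ⊤ a) :=
    (H24Def.map_scalar q (le_top : W ≤ ⊤) a).symm
  rw [e]
  let δ := homToDers c (OmegaSh.dOmega q) (Coh.structureModule X) P s
  show OmegaSh.fnSect X _ (rM _ _ (rM _ _ (δ.1 W (rO Y _ _)))) = 0
  rw [δ.2.res]
  have h0 : δ.1 ⊤ (H24Def.scalar q ⊤ a) = 0 := by
    have : H24Def.scalar q ⊤ a = q.app ⊤ ((Scheme.ΓSpecIso (CommRingCat.of k)).inv a) := by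
      show ((Scheme.ΓSpecIso (CommRingCat.of k)).inv ≫ q.appLE ⊤ ⊤ le_top) a = _
      rw [ConcreteCategory.comp_apply, Scheme.Hom.app_eq_appLE]
      rfl
    rw [this]
    exact δ.2.base ⊤ _
  rw [h0]
  simp only [map_zero]

theorem val_ext {W : Y.Opens} (hW : IsAffineOpen W) {s t : Γ(G q c, c ⁻¹ᵁ W)}
    (h : ∀ r, val q c s W le_rfl r = val q c t W le_rfl r) : s = t := by
  refine homToDers_injective c (OmegaSh.dOmega q) (Coh.structureModule X) (H17.PrinOmega.isUniversal_dOmega q) _ ?_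
  refine evalChart_injective hW le_rfl (AddMonoidHom.ext fun r => ?_)
  have e : ∀ δ : Ders q c (Coh.structureModule X) (c ⁻¹ᵁ W), dRes (le_refl (c ⁻¹ᵁ W)) δ = δ := fun δ =>
    Subtype.ext (funext fun W' => AddMonoidHom.ext fun y => rM_self (M := Coh.structureModule X) _ (δ.1 W' y))
  have h1 := h r
  simp only [val, AddMonoidHom.comp_apply, e] at h1
  exact h1

theorem exists_val {W : Y.Opens} (hW : IsAffineOpen W) (D : Γ(Y, W) →+ Γ(X, c ⁻¹ᵁ W))
    (hmul : ∀ a b, D (a * b) = c.app W a * D b + c.app W b * D a)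
    (hbase : ∀ a, D (H24Def.scalar q W a) = 0) :
    ∃ s : Γ(G q c, c ⁻¹ᵁ W), ∀ r, val q c s W le_rfl r = D r := by
  obtain ⟨δ, hδ⟩ := exists_evalChart_eq (f := q) (a₀ := c) (M := Coh.structureModule X) hW
    (isAffineOpen_top (specPt k)) le_top (Q := c ⁻¹ᵁ W) le_rfl ((OmegaSh.strSect X _).comp D)
    (fun a b => by rw [← Scheme.Hom.app_eq_appLE]; exact hmul a b)
    (fun a => by
      show D (q.appLE ⊤ W le_top a) = 0
      rw [H24DefAut.appLE_top_eq_scalar, hbase])
  obtain ⟨s, hs⟩ := homToDers_surjective c (OmegaSh.dOmega q) (Coh.structureModule X)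
    (H17.PrinOmega.isUniversal_dOmega q) _ δ
  refine ⟨s, fun r => ?_⟩
  have e : dRes (le_refl (c ⁻¹ᵁ W)) δ = δ :=
    Subtype.ext (funext fun W' => AddMonoidHom.ext fun y => rM_self (M := Coh.structureModule X) _ (δ.1 W' y))
  show OmegaSh.fnSect X _ (evalChart le_rfl (dRes le_rfl (homToDers _ _ _ _ s)) r) = _
  rw [hs, e, hδ]
  rfl

variable [IsAffineHom c]

/-- A lift changed by a derivation is a lift. -/
theorem exists_add {ξ : DefSch X x (dual k k)} {P : X.Opens} {Bp : Y.Opens → Prop}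
    (haff : ∀ W, Bp W → IsAffineOpen W) (hP : ∀ W, Bp W → c ⁻¹ᵁ W ≤ P)
    {β : ∀ W, Bp W → Γ(Y, W) →+* S ξ (c ⁻¹ᵁ W)} (hβ : IsLF q c ξ Bp β) (s : Γ(G q c, P)) :
    ∃ γ : ∀ W, Bp W → Γ(Y, W) →+* S ξ (c ⁻¹ᵁ W), IsLF q c ξ Bp γ ∧
      ∀ W (hW : Bp W) r, γ W hW r = β W hW r + emb ξ ((haff W hW).preimage c) (val q c s W (hP W hW) r) := by
  let e := fun W (hW : Bp W) r => emb ξ ((haff W hW).preimage c) (val q c s W (hP W hW) r)
  have hmul : ∀ W hW a b, e W hW (a * b) = β W hW a * e W hW b + β W hW b * e W hW a := fun W hW a b => by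
    simp only [e]
    rw [val_mul, map_add, mul_emb, mul_emb, hβ.red_eq, hβ.red_eq]
  have hone : ∀ W hW, e W hW 1 = 0 := fun W hW => by
    have h := hmul W hW 1 1
    rw [mul_one, map_one, one_mul] at h
    exact left_eq_add.1 h
  refine ⟨fun W hW =>
    { toFun := fun r => β W hW r + e W hW r
      map_one' := by rw [hone W hW, map_one, add_zero]
      map_mul' := fun a b => by
        rw [hmul W hW, map_mul]
        linear_combination -(emb_mul_emb ξ ((haff W hW).preimage c) (val q c s W (hP W hW) a)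
          (val q c s W (hP W hW) b))
      map_zero' := by simp [e]
      map_add' := fun a b => by
        simp only [e, map_add]
        exact add_add_add_comm _ _ _ _ },
    ⟨fun W W' hW hW' h r => ?_, fun W hW r => ?_, fun W hW a => ?_⟩, fun W hW r => rfl⟩
  · show β W' hW' (r0 h r) + emb ξ _ (val q c s W' _ (r0 h r)) = rs ξ _ (β W hW r + emb ξ _ _)
    rw [map_add, hβ.res W W' hW hW' h, rs_emb ξ _ ((haff W' hW').preimage c), ← val_res s h (hP W hW)]
  · show red ξ _ (β W hW r + emb ξ _ _) = _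
    rw [map_add, red_emb, hβ.red_eq, add_zero]
  · show β W hW _ + emb ξ _ (val q c s W _ _) = _
    rw [val_scalar, map_zero, add_zero, hβ.base]

/-- Two lifts over an affine open differ by a derivation. -/
theorem exists_diff {ξ : DefSch X x (dual k k)} {V : Y.Opens} (hV : IsAffineOpen V) {Bp : Y.Opens → Prop}
    (haff : ∀ W, Bp W → IsAffineOpen W) (hBV : Bp V) (hle : ∀ W, Bp W → W ≤ V)
    {β γ : ∀ W, Bp W → Γ(Y, W) →+* S ξ (c ⁻¹ᵁ W)} (hβ : IsLF q c ξ Bp β) (hγ : IsLF q c ξ Bp γ) :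
    ∃ s : Γ(G q c, c ⁻¹ᵁ V), ∀ W (hW : Bp W) r,
      γ W hW r = β W hW r + emb ξ ((haff W hW).preimage c) (val q c s W (c.preimage_mono (hle W hW)) r) := by
  choose d hd using fun r => exists_emb ξ (hV.preimage c) (r := γ V hBV r - β V hBV r)
    (by rw [map_sub, hγ.red_eq, hβ.red_eq, sub_self])
  have hinj := emb_injective ξ (hV.preimage c)
  obtain ⟨s, hs⟩ := exists_val (q := q) hV
    (AddMonoidHom.mk' d fun a b => hinj (by rw [map_add, hd, hd, hd, map_add, map_add]; ring))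
    (fun a b => hinj (by
      show emb ξ _ (d (a * b)) = emb ξ _ (c.app V a * d b + c.app V b * d a)
      rw [map_add, ← hγ.red_eq V hBV a, ← hβ.red_eq V hBV b, ← mul_emb, ← mul_emb, hd, hd, hd, map_mul, map_mul]
      ring))
    (fun a => hinj (by
      show emb ξ _ (d _) = _
      rw [hd, hγ.base, hβ.base, sub_self, map_zero]))
  obtain ⟨γ', hγ', he⟩ := exists_add haff (fun W hW => c.preimage_mono (hle W hW)) hβ s
  refine ⟨s, fun W hW r => ?_⟩
  rw [← he]
  refine congr($(r0_ext hV (haff W hW) (hle W hW) (f := γ W hW) (g := γ' W hW) ?_) r)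
  ext t
  show γ W hW (r0 (hle W hW) t) = γ' W hW (r0 (hle W hW) t)
  rw [hγ.res V W hBV hW, hγ'.res V W hBV hW]
  congr 1
  rw [he, hs]
  show γ V hBV t = β V hBV t + emb ξ _ (d t)
  rw [hd]; ring

end Groth.Agent.H24DefTan
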