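import Groth.Agent.H24DefTan.Sect
import Groth.Agent.H24DefAut.DualAutom
import Groth.Agent.H24Def.Dual

/-!
# Sections of deformations over the dual numbers
-/

set_option autoImplicit false
set_option linter.style.haveILetI false

universe u

open CategoryTheory CategoryTheory.Limits AlgebraicGeometry IsLocalRing ArtFun ArtFun.Art Opposite
open TopologicalSpace

noncomputable section

namespace Groth.Agent.H24DefTan

open Groth.Agent.H24Def (dEps)

variable {k : Type u} [Field k] {X : Scheme.{u}} {x : X ⟶ specPt k}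

/-- Constants in the dual numbers. -/
abbrev cst (c : k) : (dual k k : Art k k) := (TrivSqZeroExt.inl c : DualNumber k)

theorem tszeMap_inr {M : Type u} [AddCommGroup M] [Module k M] [Module kᵐᵒᵖ M] [IsCentralScalar k M]
    [SMulCommClass k kᵐᵒᵖ M] (f : M →ₗ[k] k) (v : M) :
    (tszeMap f : TrivSqZeroExt k M →ₐ[k] DualNumber k) (TrivSqZeroExt.inr v) =
      TrivSqZeroExt.inl (f v) * DualNumber.eps := by
  refine TrivSqZeroExt.ext ?_ ?_ <;> simp

theorem decomp_two (a : TrivSqZeroExt k (k × k)) (h : a.fst = 0) :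
    TrivSqZeroExt.inl a.snd.1 * TrivSqZeroExt.inr ((1 : k), (0 : k)) +
      TrivSqZeroExt.inl a.snd.2 * TrivSqZeroExt.inr ((0 : k), (1 : k)) = a := by
  refine TrivSqZeroExt.ext ?_ (Prod.ext ?_ ?_) <;> simp [h]

theorem mul_inr_two (a : TrivSqZeroExt k (k × k)) (h : a.fst = 0) (v : k × k) :
    a * TrivSqZeroExt.inr v = 0 := by
  refine TrivSqZeroExt.ext ?_ ?_ <;> simp [h]

section Dual

variable (ξ : DefSch X x (dual k k))

/-- `ε` as a function. -/
abbrev eps (P : X.Opens) : S ξ P := sc ξ P (dEps k)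

theorem red_eps (P : X.Opens) : red ξ P (eps ξ P) = 0 := by
  rw [red_sc, H24Def.res_dEps, map_zero]

theorem rs_eps {P Q : X.Opens} (h : Q ≤ P) : rs ξ h (eps ξ P) = eps ξ Q := rs_sc ξ h _

theorem red_eq_zero_of_eps_mul {P : X.Opens} (hP : IsAffineOpen P) {r : S ξ P} (h : eps ξ P * r = 0) :
    red ξ P r = 0 :=
  mem_of_mul_mem ξ hP (J := ⊥) (t := dEps k)
    (fun a => by
      rw [Ideal.mem_bot, mem_maximalIdeal_iff]
      exact H24DefAut.mul_eps_eq_zero_iff (a : DualNumber k))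
    (by rw [Ideal.map_bot, Ideal.mem_bot]; exact h)

theorem exists_eq_eps_mul {P : X.Opens} (hP : IsAffineOpen P) {r : S ξ P} (h : red ξ P r = 0) :
    ∃ s, r = eps ξ P * s := by
  rw [red_eq_zero_iff ξ hP, H24Def.maximalIdeal_dual, Ideal.map_span, Set.image_singleton,
    Ideal.mem_span_singleton] at h
  exact h

theorem eps_mul_self (P : X.Opens) : eps ξ P * eps ξ P = 0 := by
  rw [← map_mul, H24Def.dEps_mul_self, map_zero]

theorem eps_mul_congr {P : X.Opens} (hP : IsAffineOpen P) {r r' : S ξ P} (h : red ξ P r = red ξ P r') :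
    eps ξ P * r = eps ξ P * r' := by
  obtain ⟨s, hs⟩ := exists_eq_eps_mul ξ hP (r := r - r') (by rw [map_sub, h, sub_self])
  rw [← sub_eq_zero, ← mul_sub, hs, ← mul_assoc, eps_mul_self, zero_mul]

/-- Multiplication by `ε` of a lift. -/
def emb {P : X.Opens} (hP : IsAffineOpen P) : Γ(X, P) →+ S ξ P :=
  AddMonoidHom.mk' (fun a => eps ξ P * Function.surjInv (red_surjective ξ hP) a) fun a b => by
    rw [← mul_add]
    refine eps_mul_congr ξ hP ?_
    rw [map_add, Function.surjInv_eq (red_surjective ξ hP), Function.surjInv_eq (red_surjective ξ hP),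
      Function.surjInv_eq (red_surjective ξ hP)]

variable {P : X.Opens} (hP : IsAffineOpen P)

theorem emb_red (r : S ξ P) : emb ξ hP (red ξ P r) = eps ξ P * r :=
  eps_mul_congr ξ hP (Function.surjInv_eq (red_surjective ξ hP) _)

theorem red_emb (a : Γ(X, P)) : red ξ P (emb ξ hP a) = 0 := by
  show red ξ P (eps ξ P * _) = 0
  rw [map_mul, red_eps, zero_mul]

theorem emb_injective : Function.Injective (emb ξ hP) := by
  refine (injective_iff_map_eq_zero _).2 fun a ha => ?_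
  obtain ⟨r, rfl⟩ := red_surjective ξ hP a
  rw [emb_red] at ha
  exact red_eq_zero_of_eps_mul ξ hP ha

theorem exists_emb {r : S ξ P} (h : red ξ P r = 0) : ∃ a, emb ξ hP a = r := by
  obtain ⟨s, rfl⟩ := exists_eq_eps_mul ξ hP h
  exact ⟨red ξ P s, emb_red ξ hP s⟩

theorem mul_emb (r : S ξ P) (a : Γ(X, P)) : r * emb ξ hP a = emb ξ hP (red ξ P r * a) := by
  obtain ⟨s, rfl⟩ := red_surjective ξ hP a
  rw [← map_mul, emb_red, emb_red]
  ring

theorem emb_mul_emb (a b : Γ(X, P)) : emb ξ hP a * emb ξ hP b = 0 := by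
  rw [mul_emb, red_emb, zero_mul, map_zero]

theorem rs_emb {Q : X.Opens} (hQ : IsAffineOpen Q) (h : Q ≤ P) (a : Γ(X, P)) :
    rs ξ h (emb ξ hP a) = emb ξ hQ (r0 h a) := by
  obtain ⟨s, rfl⟩ := red_surjective ξ hP a
  rw [emb_red, map_mul, rs_eps, ← red_rs, emb_red]

end Dual

/-- A map over `ε ↦ c ε` multiplies by `c`. -/
theorem app_scale_emb {c : k} {ξ ξ' : DefSch X x (dual k k)} (m : Mor (scale c) ξ ξ') {P : X.Opens}
    (hP : IsAffineOpen P) (a : Γ(X, P)) :
    m.app P (emb ξ hP a) = emb ξ' hP (H24Def.scalar x P c * a) := by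
  obtain ⟨r, rfl⟩ := red_surjective ξ hP a
  have h : (scale c : dual k k ⟶ dual k k) (dEps k) =
      cst c * dEps k := by
    refine (tszeMap_inr (c • LinearMap.id) (1 : k)).trans ?_
    simp
    rfl
  have h2 : red ξ' P (sc ξ' P (cst c)) = H24Def.scalar x P c := red_sc ξ' P _
  rw [emb_red, map_mul, m.app_sc, h, ← h2, ← m.red_app P r, ← map_mul (red ξ' P), emb_red, map_mul]
  ring

section Dual2

/-- The elements of square zero of `k[ε₁, ε₂]`. -/
abbrev eTwo (v : k × k) : (dual2 k k : Art k k) := (TrivSqZeroExt.inr v : TrivSqZeroExt k (k × k))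

theorem maximalIdeal_dual2 :
    maximalIdeal (dual2 k k : Art k k) = Ideal.span {eTwo ((1 : k), (0 : k)), eTwo ((0 : k), (1 : k))} := by
  refine le_antisymm (fun a ha => ?_) (Ideal.span_le.2 ?_)
  · rw [Art.mem_maximalIdeal_iff] at ha
    rw [Ideal.mem_span_pair]
    exact ⟨(TrivSqZeroExt.inl (TrivSqZeroExt.snd (show TrivSqZeroExt k (k × k) from a)).1 : TrivSqZeroExt k (k × k)),
      (TrivSqZeroExt.inl (TrivSqZeroExt.snd (show TrivSqZeroExt k (k × k) from a)).2 : TrivSqZeroExt k (k × k)),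
      decomp_two _ ha⟩
  · rintro z (rfl | rfl) <;> exact (Art.mem_maximalIdeal_iff _ _).2 rfl

theorem mul_eTwo {a : (dual2 k k : Art k k)} (ha : a ∈ maximalIdeal (dual2 k k : Art k k)) (v : k × k) :
    a * eTwo v = 0 := by
  rw [Art.mem_maximalIdeal_iff] at ha
  have h : TrivSqZeroExt.fst (show TrivSqZeroExt k (k × k) from a) = 0 := ha
  exact mul_inr_two _ h v

variable (ζ : DefSch X x (dual2 k k)) {P : X.Opens} (hP : IsAffineOpen P)

include hP in
theorem exists_eq_eTwo {r : S ζ P} (h : red ζ P r = 0) :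
    ∃ a b, r = sc ζ P (eTwo (1, 0)) * a + sc ζ P (eTwo (0, 1)) * b := by
  rw [red_eq_zero_iff ζ hP, maximalIdeal_dual2, Ideal.map_span, Set.image_pair, Ideal.mem_span_pair] at h
  obtain ⟨a, b, rfl⟩ := h
  exact ⟨a, b, by ring⟩

include hP in
theorem eTwo_mul_eq_zero {r : S ζ P} (h : red ζ P r = 0) (v : k × k) : sc ζ P (eTwo v) * r = 0 := by
  obtain ⟨a, b, rfl⟩ := exists_eq_eTwo ζ hP h
  have hv : ∀ w, sc ζ P (eTwo v) * sc ζ P (eTwo w) = 0 := fun w => by
    rw [← map_mul, mul_comm, mul_eTwo ((Art.mem_maximalIdeal_iff _ _).2 rfl) v, map_zero]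
  rw [mul_add, ← mul_assoc, hv, ← mul_assoc, hv, zero_mul, zero_mul, add_zero]

theorem pr₁_eTwo (v : k × k) :
    (pr₁ : dual2 k k ⟶ dual k k) (eTwo v) = cst v.1 * dEps k :=
  tszeMap_inr _ v

theorem pr₂_eTwo (v : k × k) :
    (pr₂ : dual2 k k ⟶ dual k k) (eTwo v) = cst v.2 * dEps k :=
  tszeMap_inr _ v

theorem plus_eTwo (v : k × k) :
    (plus : dual2 k k ⟶ dual k k) (eTwo v) = cst (v.1 + v.2) * dEps k :=
  tszeMap_inr _ v

variable {ζ} {ξ₁ ξ₂ ξ₃ : DefSch X x (dual k k)} (m₁ : Mor pr₁ ζ ξ₁) (m₂ : Mor pr₂ ζ ξ₂) (m₃ : Mor plus ζ ξ₃)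

theorem pr₁_left : (pr₁ : dual2 k k ⟶ dual k k) (eTwo ((1, 0) : k × k)) = dEps k :=
  (pr₁_eTwo _).trans (by
    show (TrivSqZeroExt.inl _ : DualNumber k) * DualNumber.eps = (_ : DualNumber k)
    simp <;> first | exact one_mul (M := DualNumber k) _ | exact zero_mul (DualNumber.eps : DualNumber k))

theorem pr₁_right : (pr₁ : dual2 k k ⟶ dual k k) (eTwo ((0, 1) : k × k)) = 0 :=
  (pr₁_eTwo _).trans (by
    show (TrivSqZeroExt.inl _ : DualNumber k) * DualNumber.eps = (_ : DualNumber k)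
    simp <;> first | exact one_mul (M := DualNumber k) _ | exact zero_mul (DualNumber.eps : DualNumber k))

theorem pr₂_left : (pr₂ : dual2 k k ⟶ dual k k) (eTwo ((1, 0) : k × k)) = 0 :=
  (pr₂_eTwo _).trans (by
    show (TrivSqZeroExt.inl _ : DualNumber k) * DualNumber.eps = (_ : DualNumber k)
    simp <;> first | exact one_mul (M := DualNumber k) _ | exact zero_mul (DualNumber.eps : DualNumber k))

theorem pr₂_right : (pr₂ : dual2 k k ⟶ dual k k) (eTwo ((0, 1) : k × k)) = dEps k :=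
  (pr₂_eTwo _).trans (by
    show (TrivSqZeroExt.inl _ : DualNumber k) * DualNumber.eps = (_ : DualNumber k)
    simp <;> first | exact one_mul (M := DualNumber k) _ | exact zero_mul (DualNumber.eps : DualNumber k))

theorem plus_left : (plus : dual2 k k ⟶ dual k k) (eTwo ((1, 0) : k × k)) = dEps k :=
  (plus_eTwo _).trans (by
    show (TrivSqZeroExt.inl _ : DualNumber k) * DualNumber.eps = (_ : DualNumber k)
    simp <;> first | exact one_mul (M := DualNumber k) _ | exact zero_mul (DualNumber.eps : DualNumber k))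

theorem plus_right : (plus : dual2 k k ⟶ dual k k) (eTwo ((0, 1) : k × k)) = dEps k :=
  (plus_eTwo _).trans (by
    show (TrivSqZeroExt.inl _ : DualNumber k) * DualNumber.eps = (_ : DualNumber k)
    simp <;> first | exact one_mul (M := DualNumber k) _ | exact zero_mul (DualNumber.eps : DualNumber k))

theorem app_combination (a b : S ζ P) :
    m₁.app P (sc ζ P (eTwo (1, 0)) * a + sc ζ P (eTwo (0, 1)) * b) = eps ξ₁ P * m₁.app P a ∧
    m₂.app P (sc ζ P (eTwo (1, 0)) * a + sc ζ P (eTwo (0, 1)) * b) = eps ξ₂ P * m₂.app P b ∧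
    m₃.app P (sc ζ P (eTwo (1, 0)) * a + sc ζ P (eTwo (0, 1)) * b) =
      eps ξ₃ P * m₃.app P a + eps ξ₃ P * m₃.app P b := by
  simp [Mor.app_sc, pr₁_left, pr₁_right, pr₂_left, pr₂_right, plus_left, plus_right]

include hP in
/-- The two projections are jointly injective. -/
theorem pair_injective {r r' : S ζ P} (h₁ : m₁.app P r = m₁.app P r') (h₂ : m₂.app P r = m₂.app P r') :
    r = r' := by
  rw [← sub_eq_zero]
  have e₁ : m₁.app P (r - r') = 0 := by rw [map_sub, h₁, sub_self]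
  have e₂ : m₂.app P (r - r') = 0 := by rw [map_sub, h₂, sub_self]
  generalize r - r' = d at e₁ e₂ ⊢
  have hd : red ζ P d = 0 := by rw [← m₁.red_app, e₁, map_zero]
  obtain ⟨a, b, rfl⟩ := exists_eq_eTwo ζ hP hd
  simp [Mor.app_sc, pr₁_left, pr₁_right] at e₁
  simp [Mor.app_sc, pr₂_left, pr₂_right] at e₂
  have ha := red_eq_zero_of_eps_mul ξ₁ hP e₁
  have hb := red_eq_zero_of_eps_mul ξ₂ hP e₂
  rw [m₁.red_app] at ha
  rw [m₂.red_app] at hb
  rw [eTwo_mul_eq_zero ζ hP ha, eTwo_mul_eq_zero ζ hP hb, add_zero]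

include hP in
/-- Pairs of sections with the same reduction come from the fibre product. -/
theorem pair_surjective {r₁ : S ξ₁ P} {r₂ : S ξ₂ P} (h : red ξ₁ P r₁ = red ξ₂ P r₂) :
    ∃ r, m₁.app P r = r₁ ∧ m₂.app P r = r₂ := by
  obtain ⟨r₀, hr₀⟩ := red_surjective ζ hP (red ξ₁ P r₁)
  obtain ⟨s₁, hs₁⟩ := exists_eq_eps_mul ξ₁ hP (r := r₁ - m₁.app P r₀) (by rw [map_sub, m₁.red_app, hr₀, sub_self])
  obtain ⟨s₂, hs₂⟩ := exists_eq_eps_mul ξ₂ hP (r := r₂ - m₂.app P r₀)
    (by rw [map_sub, m₂.red_app, hr₀, ← h, sub_self])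
  obtain ⟨a, ha⟩ := red_surjective ζ hP (red ξ₁ P s₁)
  obtain ⟨b, hb⟩ := red_surjective ζ hP (red ξ₂ P s₂)
  refine ⟨r₀ + (sc ζ P (eTwo (1, 0)) * a + sc ζ P (eTwo (0, 1)) * b), ?_, ?_⟩
  · simp [Mor.app_sc, pr₁_left, pr₁_right]
    rw [eps_mul_congr ξ₁ hP (r' := s₁) (by rw [m₁.red_app, ha]), ← hs₁]
    ring
  · simp [Mor.app_sc, pr₂_left, pr₂_right]
    rw [eps_mul_congr ξ₂ hP (r' := s₂) (by rw [m₂.red_app, hb]), ← hs₂]
    ring

/-- Summing along `ε₁, ε₂ ↦ ε`. -/
theorem plus_emb {r : S ζ P} {a b : Γ(X, P)} (h₁ : m₁.app P r = emb ξ₁ hP a) (h₂ : m₂.app P r = emb ξ₂ hP b) :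
    m₃.app P r = emb ξ₃ hP (a + b) := by
  have hr : red ζ P r = 0 := by rw [← m₁.red_app, h₁, red_emb]
  obtain ⟨u, v, rfl⟩ := exists_eq_eTwo ζ hP hr
  have e := app_combination m₁ m₂ m₃ u v
  rw [e.1, ← emb_red ξ₁ hP, m₁.red_app] at h₁
  rw [e.2.1, ← emb_red ξ₂ hP, m₂.red_app] at h₂
  rw [e.2.2, ← emb_red ξ₃ hP, ← emb_red ξ₃ hP, m₃.red_app, m₃.red_app, emb_injective ξ₁ hP h₁,
    emb_injective ξ₂ hP h₂, map_add]

end Dual2

end Groth.Agent.H24DefTan
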