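import Groth.Agent.H24DefTan.Kernel
import Groth.Agent.H10Coh.Proper2
import Groth.Agent.H29Ref.HomSections
import Groth.Agent.H29Omega.SheafFinite
import Groth.Agent.H17.ConsModModels

/-!
# The tangent space of the deformation functor of a closed subscheme of a smooth proper scheme is finite
-/

set_option autoImplicit false
set_option linter.style.haveILetI false
set_option linter.unusedSectionVars false

universe u

open CategoryTheory CategoryTheory.Limits AlgebraicGeometry IsLocalRing ArtFun ArtFun.Art Opposite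
open TopologicalSpace

noncomputable section

namespace Groth.Agent.H24DefTan

variable {k : Type u} [Field k] {X Y : Scheme.{u}} [X.Over (Spec (CommRingCat.of k))]
  [Y.Over (Spec (CommRingCat.of k))]
variable {c : X ⟶ Y} [IsClosedImmersion c] {ι : Type u} {V : ι → Y.Opens}

/-- A lift killing the ideal factors through the closed subscheme. -/
theorem exists_factor {ξ : DefSch X (str k X) (dual k k)} {W : Y.Opens} (hW : IsAffineOpen W)
    (β : Γ(Y, W) →+* S ξ (c ⁻¹ᵁ W))
    (h0 : ∀ s : Γ(ClSub.idealMod c.ker, W), β (OmegaSh.idealSect c.ker W s) = 0) :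
    ∃ ρ : Γ(X, c ⁻¹ᵁ W) →+* S ξ (c ⁻¹ᵁ W), ∀ r, ρ (c.app W r) = β r := by
  have hsur : Function.Surjective (c.app W).hom := c.app_surjective W hW
  refine ⟨RingHom.liftOfSurjective (c.app W).hom hsur ⟨β, fun r hr => ?_⟩,
    fun r => RingHom.liftOfRightInverse_comp_apply _ _ _ _ _⟩
  have hr' : r ∈ c.ker.ideal ⟨W, hW⟩ := by
    rw [Scheme.Hom.ker_apply c ⟨W, hW⟩]
    exact hr
  obtain ⟨s, rfl⟩ := (H29Blow.mem_ideal_iff_exists_idealSect c.ker hW r).1 hr'
  exact h0 s

theorem cl_eq_zero_of_relK_zero [TangentStr (defFunctor (Λ := k) X (str k X))] [X.IsSeparated] [Y.IsSeparated]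
    (hc : c ≫ str k Y = str k X) (hx : Flat (str k X)) (hcov : iSup V = ⊤) (hV : ∀ j, IsAffineOpen (V j))
    {t : TangentSpace (defFunctor (Λ := k) X (str k X))} (h : RelK c V t 0) : t = 0 := by
  obtain ⟨ξ, β, rfl, hlf, hd⟩ := h
  have hB : ∀ j, BB V (V j) := fun j => ⟨j, hV j, le_rfl⟩
  have hB' : ∀ j l, BB V (V j ⊓ V l) := fun j l => ⟨j, (hV j).inf (hV l), inf_le_left⟩
  have hkill : ∀ W (hW : BB V W) s, β W hW (OmegaSh.idealSect c.ker W s) = 0 := fun W hW s => by
    rw [hd W hW s]
    exact map_zero _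
  have hfac : ∀ W (hW : BB V W), ∃ ρ : Γ(X, c ⁻¹ᵁ W) →+* S ξ (c ⁻¹ᵁ W), ∀ r, ρ (c.app W r) = β W hW r :=
    fun W hW => exists_factor (affine_of_BB hW) (β W hW) (hkill W hW)
  choose ρ hρ using hfac
  have hsur : ∀ W, BB V W → Function.Surjective (c.app W).hom := fun W hW => c.app_surjective W (affine_of_BB hW)
  have hres : ∀ W W' (hW : BB V W) (hW' : BB V W') (e : W' ≤ W) (r : Γ(X, c ⁻¹ᵁ W)),
      ρ W' hW' (r0 (c.preimage_mono e) r) = rs ξ (c.preimage_mono e) (ρ W hW r) := by
    intro W W' hW hW' e r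
    obtain ⟨r, rfl⟩ := hsur W hW r
    rw [show r0 (c.preimage_mono e) (c.app W r) = c.app W' (r0 e r) from
      (ConcreteCategory.congr_hom (c.naturality (homOfLE e).op) r).symm, hρ, hρ, hlf.res W W' hW hW' e]
  have hcovX : iSup (cov c V) = ⊤ := top_unique fun p _ => by
    obtain ⟨j, hj⟩ := Opens.mem_iSup.1 (hcov.ge (Opens.mem_top (c p)))
    exact Opens.mem_iSup.2 ⟨j, hj⟩
  have e := cl_eq_of_retraction (U := cov c V) (fun j => (hV j).preimage c) hcovX (hx := hx) ξ
    (fun j => ρ (V j) (hB j)) (fun j l => ρ (V j ⊓ V l) (hB' j l))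
    (fun j l r => hres (V j) (V j ⊓ V l) (hB j) (hB' j l) inf_le_left r)
    (fun j l r => hres (V l) (V j ⊓ V l) (hB l) (hB' j l) inf_le_right r)
    (fun j r => by
      obtain ⟨r, rfl⟩ := hsur (V j) (hB j) r
      rw [hρ, hlf.red_eq])
    (fun j a => by
      have h1 : H24Def.scalar (str k X) (c ⁻¹ᵁ V j) a = c.app (V j) (H24Def.scalar (str k Y) (V j) a) := by
        rw [Scheme.Hom.app_eq_appLE]
        exact (H28Def.appLE_scalar (RingHom.id k) c (str k X) (str k Y)
          (by rw [hc, CommRingCat.ofHom_id, Spec.map_id, Category.comp_id]) _ _ _ a).symm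
      show ρ (V j) (hB j) (H24Def.scalar (str k X) (c ⁻¹ᵁ V j) a) = _
      rw [h1, hρ, hlf.base])
  let tX : TangentSpace (defFunctor (Λ := k) X (str k X)) := ξ.cl
  show tX = 0
  refine Eq.trans ?_ (zero_smul k tX)
  refine Eq.trans ?_ (TangentStr.smul_eq (0 : k) (ξ.cl : (defFunctor (Λ := k) X (str k X)).obj (dual k k))).symm
  refine e.trans ?_
  rw [H24Art.scale_zero, Functor.map_comp]
  show _ = (defFunctor (Λ := k) X (str k X)).map baseToDual
    ((defFunctor (Λ := k) X (str k X)).map (toBase (dual k k)) ξ.cl)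
  rw [(H28Def.h0_defFunctor (Λ := k) (X := X) (x := str k X)).2.elim
    ((defFunctor (Λ := k) X (str k X)).map (toBase (dual k k)) ξ.cl) (DefSch.self X (str k X) hx).cl]
  have hb : (baseToDual : base k k ⟶ dual k k) = ofBase (dual k k) := Art.hom_ext (AlgHom.ext fun _ => rfl)
  rw [hb]
  rfl

theorem finite_lifted [TangentStr (defFunctor (Λ := k) X (str k X))] [X.IsSeparated] [Y.IsSeparated]
    [IsProper (str k Y)]
    (hc : c ≫ str k Y = str k X) (hx : Flat (str k X)) (hcov : iSup V = ⊤) (hV : ∀ j, IsAffineOpen (V j)) :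
    ∃ M : Submodule k (TangentSpace (defFunctor (Λ := k) X (str k X))), Module.Finite k M ∧
      ∀ t, Rel (str k Y) c V t 0 → t ∈ M := by
  haveI : IsLocallyNoetherian Y := LocallyOfFiniteType.isLocallyNoetherian (str k Y)
  haveI : IsFinite c := inferInstance
  have hI : Coh.IsCoh (ClSub.idealMod c.ker) :=
    H10Coh.isCoh_kernel _ (H10Coh.isCoh_structureModule' _)
      (H10Coh.isCoh_push_of_isFinite (f := c.ker.subschemeι) (M := Coh.structureModule _)
        (H10Coh.isCoh_structureModule' _)).1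
  have hP : Coh.IsCoh (pushO c) :=
    H10Coh.isCoh_push_of_isFinite (f := c) (M := Coh.structureModule X) (H10Coh.isCoh_structureModule' _)
  haveI : Module.Finite k (ClSub.idealMod c.ker ⟶ pushO c) := H10Coh.HomFibre.finite_hom hI hP
  let F := TangentSpace (defFunctor (Λ := k) X (str k X))
  have hext : ∀ t, Rel (str k Y) c V t 0 → ∃ α, RelK c V t α := by
    rintro t ⟨ξ, β, rfl, hlf, hd⟩
    have hagree : ∀ j l W (hj : Bp V j W) (hl : Bp V l W) r, β l W hl r = β j W hj r := by
      intro j l W hj hl r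
      have h := hd (![j, l]) W hj hl r
      rw [show (0 : C1 (str k Y) c V) (![j, l]) = 0 from rfl, cval_zero, map_zero, add_zero] at h
      exact h
    let γ : ∀ W, BB V W → Γ(Y, W) →+* S ξ (c ⁻¹ᵁ W) := fun W hW => β hW.choose W hW.choose_spec
    refine exists_relK_of_family hcov hV (β := γ) ⟨fun W W' hW hW' h r => ?_, fun W hW r => ?_, fun W hW a => ?_⟩
    · have hb : Bp V hW.choose W' := ⟨affine_of_BB hW', h.trans hW.choose_spec.2⟩
      show β hW'.choose W' hW'.choose_spec (r0 h r) = _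
      rw [hagree hW.choose hW'.choose W' hb hW'.choose_spec]
      exact (hlf _).res W W' hW.choose_spec hb h r
    · exact (hlf _).red_eq W hW.choose_spec r
    · exact (hlf _).base W hW.choose_spec a
  have hzero : RelK c V (0 : F) (0 : ClSub.idealMod c.ker ⟶ pushO c) := by
    have hself : ∀ W (hW : BB V W), Function.Injective (red (DefSch.self (Λ := k) X (str k X) hx) (c ⁻¹ᵁ W)) :=
      fun W hW => by
        refine (injective_iff_map_eq_zero _).2 fun r hr => ?_
        rw [red_eq_zero_iff _ ((affine_of_BB hW).preimage c)] at hr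
        have hm : maximalIdeal (base k k : Art k k) = ⊥ := by
          ext a
          rw [Art.mem_maximalIdeal_iff, Ideal.mem_bot]
          exact Iff.rfl
        rw [hm, Ideal.map_bot, Ideal.mem_bot] at hr
        exact hr
    let ξ₀ : DefSch X (str k X) (base k k : Art k k) := DefSch.self X (str k X) hx
    have hb := fun W (hW : BB V W) => red_surjective ξ₀ ((affine_of_BB hW).preimage c)
    let β : ∀ W, BB V W → Γ(Y, W) →+* S ξ₀ (c ⁻¹ᵁ W) := fun W hW =>
      ((RingEquiv.ofBijective (red ξ₀ (c ⁻¹ᵁ W)) ⟨hself W hW, hb W hW⟩).symm.toRingHom).comp (c.app W).hom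
    have hred : ∀ W hW r, red ξ₀ _ (β W hW r) = c.app W r := fun W hW r =>
      RingEquiv.apply_symm_apply (RingEquiv.ofBijective (red ξ₀ (c ⁻¹ᵁ W)) ⟨hself W hW, hb W hW⟩) _
    have hβ : IsLF (str k Y) c ξ₀ (BB V) β := by
      refine ⟨fun W W' hW hW' h r => hself W' hW' ?_, hred, fun W hW a => hself W hW ?_⟩
      · rw [hred W' hW', red_rs, hred W hW]
        exact ConcreteCategory.congr_hom (c.naturality (homOfLE h).op) r
      · rw [hred W hW, red_sc, Scheme.Hom.app_eq_appLE]
        exact H28Def.appLE_scalar (RingHom.id k) c (str k X) (str k Y)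
          (by rw [hc, CommRingCat.ofHom_id, Spec.map_id, Category.comp_id]) _ _ _ a
    obtain ⟨α, hα⟩ := exists_relK_of_family hcov hV
      (hβ.map (Mor.ofIso (DefSch.Iso.refl (ξ₀.baseChange (baseToDual : base k k ⟶ dual k k)))))
    have := relK_smul hc (0 : k) hα
    rwa [zero_smul, zero_smul] at this
  let R : Submodule k ((ClSub.idealMod c.ker ⟶ pushO c) × F) :=
    { carrier := {p | RelK c V p.2 p.1}
      add_mem' := fun h h' => relK_add h h'
      zero_mem' := hzero
      smul_mem' := fun a p h => relK_smul hc a h }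
  haveI : Module.Finite k R := by
    refine Module.Finite.of_injective ((LinearMap.fst k _ F).comp R.subtype) ?_
    rw [← LinearMap.ker_eq_bot, LinearMap.ker_eq_bot']
    rintro ⟨⟨α, t⟩, h⟩ (h1 : α = 0)
    subst h1
    obtain rfl := cl_eq_zero_of_relK_zero hc hx hcov hV h
    rfl
  refine ⟨LinearMap.range ((LinearMap.snd k _ F).comp R.subtype), Module.Finite.range _, fun t ht => ?_⟩
  obtain ⟨α, hα⟩ := hext t ht
  exact ⟨⟨(α, t), hα⟩, rfl⟩

/-- The tangent space of the deformation functor is finite-dimensional. -/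
theorem finite_tangentSpace [TangentStr (defFunctor (Λ := k) X (str k X))] [Smooth (str k Y)]
    [IsProper (str k Y)] (hc : c ≫ str k Y = str k X) :
    Module.Finite k (TangentSpace (defFunctor (Λ := k) X (str k X))) := by
  haveI : IsProper (str k X) := by rw [← hc]; infer_instance
  haveI : Y.IsSeparated := ⟨by
    rw [← terminal.comp_from (str k Y)]; infer_instance⟩
  haveI : X.IsSeparated := ⟨by
    rw [← terminal.comp_from (str k X)]; infer_instance⟩
  haveI : IsLocallyNoetherian Y := LocallyOfFiniteType.isLocallyNoetherian (str k Y)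
  haveI : IsLocallyNoetherian X := LocallyOfFiniteType.isLocallyNoetherian (str k X)
  have hx : Flat (str k X) := inferInstance
  haveI : CompactSpace Y := QuasiCompact.compactSpace_of_compactSpace (str k Y)
  obtain ⟨s, hs⟩ := isCompact_univ.elim_finite_subcover (fun U : Y.affineOpens => (U.1 : Set Y))
    (fun U => U.1.2) fun y _ => by
      obtain ⟨U, hU, hy, -⟩ := exists_isAffineOpen_mem_and_subset (X := Y) (x := y) (U := ⊤) trivial
      exact Set.mem_iUnion.2 ⟨⟨U, hU⟩, hy⟩
  let ι₀ : Type u := {U // U ∈ s}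
  let W₀ : ι₀ → Y.Opens := fun U => U.1.1
  have hV : ∀ j, IsAffineOpen (W₀ j) := fun U => U.1.2
  have hcov : iSup W₀ = ⊤ := top_unique fun y _ => by
    obtain ⟨U, hU, hy⟩ := Set.mem_iUnion₂.1 (hs (Set.mem_univ y))
    exact Opens.mem_iSup.2 ⟨⟨U, hU⟩, hy⟩
  obtain ⟨M, hM, hlift⟩ := finite_lifted (V := W₀) hc hx hcov hV
  haveI := hM
  let G₀ := G (str k Y) c
  have hG : Coh.IsCoh G₀ :=
    H29Ref.isCoh_homSh _ _
      (H17.ConsProp.isCoh_pullback c (H17.ConsProp.isCoh_of_isFP (H29Omega.isFP_sheaf (str k Y))))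
      (H10Coh.isCoh_structureModule' _)
  haveI : G₀.IsQuasicoherent := hG.1
  have hgood : LeadBC.GoodCover (cov c W₀) :=
    ⟨fun p a => by
      rw [preimage_cap c W₀ a]
      exact (isAffineOpen_cap W₀ hV a).preimage c,
    fun p _ => by
      obtain ⟨j, hj⟩ := Opens.mem_iSup.1 (hcov.ge (Opens.mem_top (c p)))
      exact Opens.mem_iSup.2 ⟨j, hj⟩⟩
  haveI : Module.Finite k (Coh.HH X G₀ 1) := H10Coh.finite_HH_proper k X G₀ hG 1
  let K := LeadBC.KC k (cov c W₀) G₀
  haveI : Module.Finite k (K.homology 1) := Module.Finite.equiv (LeadBC.eHH k hgood G₀ 1).symm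
  let F := TangentSpace (defFunctor (Λ := k) X (str k X))
  let d₁ := (K.d 1 2).hom
  have hd₁ : ∀ v : C1 (str k Y) c W₀, d₁ v = LeadBC.dK k (cov c W₀) G₀ 1 v := fun v =>
    congr($(LeadBC.KC_d k (cov c W₀) G₀ 1).hom v)
  have hd₀ : ∀ w, (K.d 0 1).hom w = LeadBC.dK k (cov c W₀) G₀ 0 w := fun w =>
    congr($(LeadBC.KC_d k (cov c W₀) G₀ 0).hom w)
  let O : Submodule k (F × C1 (str k Y) c W₀) :=
    { carrier := {p | Rel (str k Y) c W₀ p.1 p.2}
      add_mem' := fun h h' => rel_add h h'
      zero_mem' := by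
        obtain ⟨v, hv⟩ := rel_total hV hc (0 : F)
        have := rel_smul (0 : k) hv
        rwa [zero_smul, zero_smul] at this
      smul_mem' := fun a p h => rel_smul a h }
  let p : O →ₗ[k] K.homology 1 :=
    (H06FlatCx.cls K (j := 1) (k := 2) (CochainComplex.next ℕ 1)).comp
      (((LinearMap.snd k F _).comp O.subtype).codRestrict (LinearMap.ker d₁) fun o => by
        rw [LinearMap.mem_ker]
        exact (hd₁ _).trans (dK_eq_zero hV o.2))
  let g : O →ₗ[k] (F ⧸ M) := M.mkQ.comp ((LinearMap.fst k F _).comp O.subtype)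
  have hker : LinearMap.ker p ≤ LinearMap.ker g := by
    rintro ⟨⟨t, v⟩, h⟩ hp
    obtain ⟨w, hw⟩ : ∃ w : LeadBC.Kp k (cov c W₀) G₀ 0, LeadBC.dK k (cov c W₀) G₀ 0 w = v := by
      obtain ⟨w, hw⟩ := (H06FlatCx.cls_eq_zero_iff K (i := 0) (j := 1) (k := 2) (CochainComplex.prev_nat_succ 0)
        (CochainComplex.next ℕ 1) _).1 hp
      exact ⟨w, (hd₀ w).symm.trans hw⟩
    have h0 : Rel (str k Y) c W₀ t (v + LeadBC.dK k (cov c W₀) G₀ 0 (-w)) := rel_add_coboundary h (-w)
    rw [map_neg, hw, add_neg_cancel] at h0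
    rw [LinearMap.mem_ker]
    exact (Submodule.Quotient.mk_eq_zero M).2 (hlift t h0)
  haveI : Module.Finite k (O ⧸ LinearMap.ker p) := Module.Finite.equiv p.quotKerEquivRange.symm
  haveI : Module.Finite k (F ⧸ M) :=
    Module.Finite.of_surjective ((LinearMap.ker p).liftQ g hker) fun z => by
      obtain ⟨t, rfl⟩ := Submodule.mkQ_surjective M z
      obtain ⟨v, hv⟩ := rel_total hV hc t
      exact ⟨Submodule.Quotient.mk ⟨(t, v), hv⟩, rfl⟩
  exact Module.Finite.of_submodule_quotient M

end Groth.Agent.H24DefTan
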