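import Groth.Agent.H24DefTan.Obs
import Groth.Agent.H10Coh.HomFibre.Basic
import Groth.Agent.H10Coh.AffinePush
import Groth.Agent.H10Coh.FinType2
import Groth.Agent.H29Blow.IdealMod
import Groth.Agent.H28Def.DefHom
import Groth.Agent.H26Def.SqZero

/-!
# Deformations with a global lift form a finite-dimensional space
-/

set_option autoImplicit false
set_option linter.style.haveILetI false
set_option linter.unusedSectionVars false

universe u

open CategoryTheory CategoryTheory.Limits AlgebraicGeometry IsLocalRing ArtFun ArtFun.Art Opposite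
open TopologicalSpace

noncomputable section

namespace Groth.Agent.H24DefTan

variable {k : Type u} [Field k] {X Y : Scheme.{u}} [X.Over (Spec (CommRingCat.of k))]
  [Y.Over (Spec (CommRingCat.of k))]
variable (c : X ⟶ Y) [IsClosedImmersion c] {ι : Type u} (V : ι → Y.Opens)

/-- Affine opens inside some member of the cover. -/
abbrev BB (W : Y.Opens) : Prop := ∃ j, Bp V j W

/-- The sheaf of functions on the closed subscheme. -/
abbrev pushO : Y.Modules := (Coh.push c).obj (Coh.structureModule X)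

/-- `t` has a global lift with the given map on the ideal. -/
def RelK (t : TangentSpace (defFunctor (Λ := k) X (str k X))) (α : ClSub.idealMod c.ker ⟶ pushO c) : Prop :=
  ∃ (ξ : DefSch X (str k X) (dual k k)) (β : ∀ W, BB V W → Γ(Y, W) →+* S ξ (c ⁻¹ᵁ W)),
    ξ.cl = t ∧ IsLF (str k Y) c ξ (BB V) β ∧
    ∀ (W : Y.Opens) (hW : BB V W) (s : Γ(ClSub.idealMod c.ker, W)),
      β W hW (OmegaSh.idealSect c.ker W s) =
        emb ξ (hW.choose_spec.1.preimage c) (OmegaSh.fnSect X (c ⁻¹ᵁ W) (α.app W s))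

variable {c V}

theorem affine_of_BB {W : Y.Opens} (h : BB V W) : IsAffineOpen W := h.choose_spec.1

theorem exists_BB (hcov : iSup V = ⊤) (hV : ∀ j, IsAffineOpen (V j)) (W : Y.Opens) (y : Y) (hy : y ∈ W) :
    ∃ U, BB V U ∧ y ∈ U ∧ U ≤ W := by
  obtain ⟨j, hj⟩ := Opens.mem_iSup.1 (hcov.ge (Opens.mem_top y))
  obtain ⟨U, hU, hyU, hle⟩ :=
    exists_isAffineOpen_mem_and_subset (X := Y) (x := y) (U := W ⊓ V j) ⟨hy, hj⟩
  exact ⟨U, ⟨j, hU, fun z hz => (hle hz).2⟩, hyU, fun z hz => (hle hz).1⟩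

/-- A global family has a map on the ideal. -/
theorem exists_relK_of_family (hcov : iSup V = ⊤) (hV : ∀ j, IsAffineOpen (V j))
    {ξ : DefSch X (str k X) (dual k k)} {β : ∀ W, BB V W → Γ(Y, W) →+* S ξ (c ⁻¹ᵁ W)}
    (hβ : IsLF (str k Y) c ξ (BB V) β) :
    ∃ α, RelK c V (ξ.cl : TangentSpace (defFunctor (Λ := k) X (str k X))) α := by
  have hker : ∀ W (hW : BB V W) (s : Γ(ClSub.idealMod c.ker, W)),
      red ξ _ (β W hW (OmegaSh.idealSect c.ker W s)) = 0 := fun W hW s => by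
    rw [hβ.red_eq]
    exact H26Def.app_idealModι c W s
  choose φ hφ using fun W hW s => exists_emb ξ ((affine_of_BB hW).preimage c) (hker W hW s)
  have hinj := fun W (hW : BB V W) => emb_injective ξ ((affine_of_BB hW).preimage c)
  let ν : ∀ W, BB V W → Γ(ClSub.idealMod c.ker, W) →ₗ[Γ(Y, W)] Γ(pushO c, W) := fun W hW =>
    { toFun := fun s => OmegaSh.strSect X (c ⁻¹ᵁ W) (φ W hW s)
      map_add' := fun a b => by
        show φ W hW (a + b) = φ W hW a + φ W hW b
        refine hinj W hW ?_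
        rw [map_add, hφ, hφ, hφ, map_add, map_add]
      map_smul' := fun r a => by
        show φ W hW (r • a) = c.app W r * φ W hW a
        refine hinj W hW ?_
        rw [hφ, H29Blow.idealSect_smul, map_mul, ← hβ.red_eq W hW r, ← mul_emb, hφ] }
  obtain ⟨α, hα⟩ := H17.PrinOmega.exists_hom_of_basis (ClSub.idealMod c.ker) (pushO c) (BB V)
    (exists_BB hcov hV) ν (fun U U' h h' e s => by
      show φ U' h' _ = r0 (c.preimage_mono e) (φ U h s)
      refine hinj U' h' ?_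
      rw [hφ, ← rs_emb ξ ((affine_of_BB h).preimage c) ((affine_of_BB h').preimage c), hφ,
        ← hβ.res U U' h h' e]
      exact congrArg _ (H29Blow.idealSect_res c.ker e s))
  refine ⟨α, ξ, β, rfl, hβ, fun W hW s => ?_⟩
  rw [hα W hW]
  exact (hφ W hW s).symm

theorem relK_add {t t' : TangentSpace (defFunctor (Λ := k) X (str k X))}
    [TangentStr (defFunctor (Λ := k) X (str k X))] {α α' : ClSub.idealMod c.ker ⟶ pushO c}
    (h : RelK c V t α) (h' : RelK c V t' α') : RelK c V (t + t') (α + α') := by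
  obtain ⟨ξ₁, β₁, rfl, hlf₁, hd₁⟩ := h
  obtain ⟨ξ₂, β₂, rfl, hlf₂, hd₂⟩ := h'
  obtain ⟨z, hz₁, hz₂⟩ := H24Art.exists_dual2 (H28Def.h0_defFunctor (Λ := k) (X := X) (x := str k X))
    (H28Def.heps_defFunctor (Λ := k) (X := X) (x := str k X)) ξ₁.cl ξ₂.cl
  obtain ⟨ζ, rfl⟩ := Quotient.exists_rep z
  obtain ⟨e₁⟩ := Quotient.exact hz₁
  obtain ⟨e₂⟩ := Quotient.exact hz₂
  let m₁ := Mor.ofIso e₁
  let m₂ := Mor.ofIso e₂
  let m₃ : Mor plus ζ (ζ.baseChange plus) := Mor.ofIso (DefSch.Iso.refl _)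
  obtain ⟨β, hβ, hβ₁, hβ₂⟩ := exists_combine m₁ m₂ (fun W (h : BB V W) => affine_of_BB h) hlf₁ hlf₂
  refine ⟨ζ.baseChange plus, fun W hW => (m₃.app _).comp (β W hW), ?_, hβ.map m₃, fun W hW s => ?_⟩
  · refine (((TangentStr.add_eq (F := defFunctor (Λ := k) X (str k X)) ζ.cl)).symm.trans ?_)
    exact congrArg₂ (fun a b : TangentSpace (defFunctor (Λ := k) X (str k X)) => a + b) hz₁ hz₂
  · show m₃.app _ (β W hW _) = emb _ _
      (OmegaSh.fnSect X (c ⁻¹ᵁ W) (α.app W s) + OmegaSh.fnSect X (c ⁻¹ᵁ W) (α'.app W s))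
    exact plus_emb _ m₁ m₂ m₃ ((hβ₁ W hW _).trans (hd₁ W hW s)) ((hβ₂ W hW _).trans (hd₂ W hW s))

theorem app_smul_hom (hc : c ≫ str k Y = str k X) (a : k) (α : ClSub.idealMod c.ker ⟶ pushO c) (W : Y.Opens)
    (s : Γ(ClSub.idealMod c.ker, W)) :
    OmegaSh.fnSect X (c ⁻¹ᵁ W) ((a • α).app W s) =
      H24Def.scalar (str k X) (c ⁻¹ᵁ W) a * OmegaSh.fnSect X (c ⁻¹ᵁ W) (α.app W s) := by
  show OmegaSh.fnSect X _ (α.app W ((Formal.smulModΓ _ _).app W s)) = _
  rw [KLin.smulModΓ_app_apply, Scheme.Modules.Hom.app_smul]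
  show c.app W _ * OmegaSh.fnSect X _ (α.app W s) = _
  congr 1
  show c.app W (H24Def.scalar (str k Y) W a) = _
  rw [Scheme.Hom.app_eq_appLE]
  exact H28Def.appLE_scalar (RingHom.id k) c (str k X) (str k Y)
    (by rw [hc, CommRingCat.ofHom_id, Spec.map_id, Category.comp_id]) _ _ _ a

theorem relK_smul (hc : c ≫ str k Y = str k X) [TangentStr (defFunctor (Λ := k) X (str k X))] (a : k)
    {t : TangentSpace (defFunctor (Λ := k) X (str k X))} {α : ClSub.idealMod c.ker ⟶ pushO c}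
    (h : RelK c V t α) : RelK c V (a • t) (a • α) := by
  obtain ⟨ξ, β, rfl, hlf, hd⟩ := h
  let m : Mor (scale a) ξ (ξ.baseChange (scale a)) := Mor.ofIso (DefSch.Iso.refl _)
  refine ⟨ξ.baseChange (scale a), fun W hW => (m.app _).comp (β W hW), ?_, hlf.map m, fun W hW s => ?_⟩
  · exact (TangentStr.smul_eq a (ξ.cl : (defFunctor (Λ := k) X (str k X)).obj (dual k k))).symm
  · show m.app _ (β W hW _) = _
    rw [hd W hW s, app_scale_emb, app_smul_hom hc]

/-- Morphisms from affine opens given by rings maps agree on smaller affine opens. -/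
theorem homOfLE_specMap {T X' : Scheme.{u}} {O O' : T.Opens} (hO : IsAffineOpen O) (hO' : IsAffineOpen O')
    (e : O' ≤ O) {P P' : X'.Opens} (hP : IsAffineOpen P) (hP' : IsAffineOpen P') (e' : P' ≤ P)
    (ρ : Γ(X', P) →+* Γ(T, O)) (ρ' : Γ(X', P') →+* Γ(T, O'))
    (h : ∀ r, ρ' (r0 e' r) = r0 e (ρ r)) :
    T.homOfLE e ≫ hO.isoSpec.hom ≫ Spec.map (CommRingCat.ofHom ρ) ≫ hP.fromSpec =
      hO'.isoSpec.hom ≫ Spec.map (CommRingCat.ofHom ρ') ≫ hP'.fromSpec := by
  have h1 : hO'.isoSpec.inv ≫ T.homOfLE e = Spec.map (CommRingCat.ofHom (r0 e)) ≫ hO.isoSpec.inv := by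
    rw [← cancel_mono O.ι, Category.assoc, Category.assoc, Scheme.homOfLE_ι]
    exact (hO.map_fromSpec hO' (homOfLE e).op).symm
  rw [← cancel_epi hO'.isoSpec.inv, reassoc_of% h1, Iso.inv_hom_id_assoc, Iso.inv_hom_id_assoc]
  rw [← hP.map_fromSpec hP' (homOfLE e').op, ← Spec.map_comp_assoc, ← Spec.map_comp_assoc]
  congr 2
  ext r
  exact (h r).symm

/-- A compatible family of retractions trivialises a deformation. -/
theorem cl_eq_of_retraction [X.IsSeparated] {U : ι → X.Opens} (hU : ∀ j, IsAffineOpen (U j))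
    (hcov : iSup U = ⊤) {hx : Flat (str k X)} (ξ : DefSch X (str k X) (dual k k))
    (ρ : ∀ j, Γ(X, U j) →+* S ξ (U j)) (ρ' : ∀ j l, Γ(X, U j ⊓ U l) →+* S ξ (U j ⊓ U l))
    (hres₁ : ∀ j l r, ρ' j l (r0 inf_le_left r) = rs ξ inf_le_left (ρ j r))
    (hres₂ : ∀ j l r, ρ' j l (r0 inf_le_right r) = rs ξ inf_le_right (ρ l r))
    (hred : ∀ j r, red ξ (U j) (ρ j r) = r)
    (hbase : ∀ j (a : k), ρ j (H24Def.scalar (str k X) (U j) a) = sc ξ (U j) (algebraMap k _ a)) :
    ξ.cl = (DefSch.trivial X (str k X) hx (dual k k)).cl := by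
  let T := ξ.total
  let O := fun j => up ξ (U j)
  have hO : ∀ j, IsAffineOpen (O j) := fun j => isAffineOpen_up ξ (hU j)
  have hOcov : IsOpenCover O := by
    refine top_unique fun p _ => ?_
    obtain ⟨q, rfl⟩ := (H28Def.isClosedImmersion_i ξ).2 p
    obtain ⟨j, hj⟩ := Opens.mem_iSup.1 (hcov.ge (Opens.mem_top q))
    exact Opens.mem_iSup.2 ⟨j, ⟨q, hj, rfl⟩⟩
  let g : ∀ j, (O j : Scheme.{u}) ⟶ X := fun j =>
    (hO j).isoSpec.hom ≫ Spec.map (CommRingCat.ofHom (ρ j)) ≫ (hU j).fromSpec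
  have hg : ∀ j l, T.homOfLE inf_le_left ≫ g j = T.homOfLE (inf_le_right : O j ⊓ O l ≤ O l) ≫ g l := by
    intro j l
    have hP : IsAffineOpen (U j ⊓ U l) := (hU j).inf (hU l)
    have hO' : IsAffineOpen (up ξ (U j ⊓ U l)) := isAffineOpen_up ξ hP
    have e : O j ⊓ O l ≤ up ξ (U j ⊓ U l) := fun p hp => by
      obtain ⟨⟨a, ha, rfl⟩, ⟨b, hb, hab⟩⟩ := hp
      obtain rfl := (isHomeomorph_i ξ).injective hab
      exact ⟨b, ⟨ha, hb⟩, rfl⟩
    have hl := homOfLE_specMap (hO j) hO' (up_mono ξ inf_le_left) (hU j) hP inf_le_left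
      (ρ j) (ρ' j l)
      (fun r => hres₁ j l r)
    have hr := homOfLE_specMap (hO l) hO' (up_mono ξ inf_le_right) (hU l) hP inf_le_right
      (ρ l) (ρ' j l)
      (fun r => hres₂ j l r)
    have := congrArg (T.homOfLE e ≫ ·) (hl.trans hr.symm)
    simp only [T, Scheme.homOfLE_homOfLE_assoc] at this
    exact this
  let 𝒰 := T.openCoverOfIsOpenCover O hOcov
  let r : T ⟶ X := 𝒰.glueMorphisms g (fun j l => by
    refine (cancel_epi (isPullback_opens_inf (O j) (O l)).isoPullback.hom).mp ?_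
    show (isPullback_opens_inf _ _).isoPullback.hom ≫ pullback.fst _ _ ≫ g j =
      (isPullback_opens_inf _ _).isoPullback.hom ≫ pullback.snd _ _ ≫ g l
    rw [(isPullback_opens_inf (O j) (O l)).isoPullback_hom_fst_assoc,
      (isPullback_opens_inf (O j) (O l)).isoPullback_hom_snd_assoc]
    exact hg j l)
  have hr : ∀ j, (hO j).fromSpec ≫ r =
      Spec.map (CommRingCat.ofHom (ρ j)) ≫ (hU j).fromSpec := fun j => by
    have h1 : (O j).ι ≫ r = g j := 𝒰.ι_glueMorphisms g _ j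
    rw [show (hO j).fromSpec = (hO j).isoSpec.inv ≫ (O j).ι from rfl, Category.assoc, h1, Iso.inv_hom_id_assoc]
  have hri : ξ.i ≫ r = 𝟙 X := by
    refine Scheme.Cover.hom_ext (X.openCoverOfIsOpenCover U (hcov : IsOpenCover U)) _ _ fun j => ?_
    show (U j).ι ≫ ξ.i ≫ r = (U j).ι ≫ 𝟙 X
    rw [Category.comp_id, ← cancel_epi (hU j).isoSpec.inv]
    show ((hU j).fromSpec) ≫ ξ.i ≫ r = (hU j).fromSpec
    rw [← Category.assoc, ← IsAffineOpen.SpecMap_appLE_fromSpec ξ.i (hO j) (hU j) (preimage_up ξ (U j)).ge,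
      Category.assoc, hr, ← Spec.map_comp_assoc]
    have : CommRingCat.ofHom (ρ j) ≫ ξ.i.appLE (O j) (U j) (preimage_up ξ (U j)).ge =
        𝟙 _ := by
      ext s
      exact hred j s
    rw [this, Spec.map_id]
    exact Category.id_comp _
  have hrx : r ≫ str k X = ξ.f ≫ specMap (ofBase (dual k k)) := by
    refine Scheme.Cover.hom_ext 𝒰 _ _ fun j => ?_
    show (O j).ι ≫ r ≫ str k X = (O j).ι ≫ ξ.f ≫ specMap (ofBase (dual k k))
    rw [← cancel_epi (hO j).isoSpec.inv]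
    show (hO j).fromSpec ≫ r ≫ str k X = (hO j).fromSpec ≫ ξ.f ≫ specMap (ofBase (dual k k))
    rw [reassoc_of% (hr j), H28Def.fromSpec_comp (str k X) (hU j), ← Category.assoc,
      H28Def.fromSpec_comp ξ.f (hO j), ← Spec.map_comp, ← Spec.map_comp]
    congr 1
    ext a
    exact hbase j a
  let φ : ξ.total ⟶ (DefSch.trivial X (str k X) hx (dual k k)).total := pullback.lift r ξ.f hrx
  have hφi : ξ.i ≫ φ = (DefSch.trivial X (str k X) hx (dual k k)).i := by
    refine pullback.hom_ext ?_ ?_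
    · exact (Category.assoc _ _ _).trans ((congrArg (ξ.i ≫ ·) (pullback.lift_fst _ _ _)).trans
        (hri.trans (DefSch.baseChange_i_fst (DefSch.self X (str k X) hx) (ofBase (dual k k))).symm))
    · exact (Category.assoc _ _ _).trans ((congrArg (ξ.i ≫ ·) (pullback.lift_snd _ _ _)).trans
        (ξ.i_f.trans (DefSch.baseChange_i_f (DefSch.self X (str k X) hx) (ofBase (dual k k))).symm))
  haveI := H28Def.isIso_of_def_hom φ (pullback.lift_snd _ _ _) hφi
  exact Quotient.sound ⟨⟨asIso φ, pullback.lift_snd _ _ _, hφi⟩⟩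

end Groth.Agent.H24DefTan
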