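import Groth.Agent.H24DefTan.Dual
import Mathlib

/-!
# Local lifts of a map from the closed fibre to a smooth scheme
-/

set_option autoImplicit false
set_option linter.style.haveILetI false

universe u

open CategoryTheory CategoryTheory.Limits AlgebraicGeometry IsLocalRing ArtFun ArtFun.Art Opposite
open TopologicalSpace

noncomputable section

namespace Groth.Agent.H24DefTan

variable {k : Type u} [Field k] {X Y : Scheme.{u}} {x : X ⟶ specPt k} {A B : Art k k}
variable (q : Y ⟶ specPt k) (c : X ⟶ Y)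

/-- A natural family of lifts of `c` to a deformation, on the opens satisfying `Bp`. -/
structure IsLF (ξ : DefSch X x A) (Bp : Y.Opens → Prop)
    (β : ∀ W, Bp W → Γ(Y, W) →+* S ξ (c ⁻¹ᵁ W)) : Prop where
  res : ∀ (W W' : Y.Opens) (hW : Bp W) (hW' : Bp W') (h : W' ≤ W) (r : Γ(Y, W)),
    β W' hW' (r0 h r) = rs ξ (c.preimage_mono h) (β W hW r)
  red_eq : ∀ (W : Y.Opens) (hW : Bp W) (r : Γ(Y, W)), red ξ _ (β W hW r) = c.app W r
  base : ∀ (W : Y.Opens) (hW : Bp W) (a : k),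
    β W hW (H24Def.scalar q W a) = sc ξ _ (algebraMap k A a)

variable {q c}

theorem IsLF.map {g : A ⟶ B} {ξ : DefSch X x A} {ξ' : DefSch X x B} (m : Mor g ξ ξ') {Bp : Y.Opens → Prop}
    {β : ∀ W, Bp W → Γ(Y, W) →+* S ξ (c ⁻¹ᵁ W)} (hβ : IsLF q c ξ Bp β) :
    IsLF q c ξ' Bp (fun W hW => (m.app _).comp (β W hW)) where
  res W W' hW hW' h r := by
    rw [RingHom.comp_apply, hβ.res W W' hW hW' h, m.app_rs]; rfl
  red_eq W hW r := by rw [RingHom.comp_apply, m.red_app, hβ.red_eq]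
  base W hW a := by
    rw [RingHom.comp_apply, hβ.base, m.app_sc]
    exact congrArg (sc ξ' _) (g.toAlgHom.commutes a)

theorem IsLF.mono {ξ : DefSch X x A} {Bp Bp' : Y.Opens → Prop} (h : ∀ W, Bp' W → Bp W)
    {β : ∀ W, Bp W → Γ(Y, W) →+* S ξ (c ⁻¹ᵁ W)} (hβ : IsLF q c ξ Bp β) :
    IsLF q c ξ Bp' (fun W hW => β W (h W hW)) where
  res W W' hW hW' e r := hβ.res W W' (h W hW) (h W' hW') e r
  red_eq W hW r := hβ.red_eq W (h W hW) r
  base W hW a := hβ.base W (h W hW) a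

section Combine

variable {ζ : DefSch X x (dual2 k k)} {ξ₁ ξ₂ : DefSch X x (dual k k)} (m₁ : Mor pr₁ ζ ξ₁) (m₂ : Mor pr₂ ζ ξ₂)
  [IsAffineHom c] {Bp : Y.Opens → Prop} (haff : ∀ W, Bp W → IsAffineOpen W)
  {β₁ : ∀ W, Bp W → Γ(Y, W) →+* S ξ₁ (c ⁻¹ᵁ W)} {β₂ : ∀ W, Bp W → Γ(Y, W) →+* S ξ₂ (c ⁻¹ᵁ W)}

include haff in
/-- Lifts to the two first order deformations combine. -/
theorem exists_combine (h₁ : IsLF q c ξ₁ Bp β₁) (h₂ : IsLF q c ξ₂ Bp β₂) :
    ∃ β : ∀ W, Bp W → Γ(Y, W) →+* S ζ (c ⁻¹ᵁ W), IsLF q c ζ Bp β ∧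
      (∀ W hW r, m₁.app _ (β W hW r) = β₁ W hW r) ∧ ∀ W hW r, m₂.app _ (β W hW r) = β₂ W hW r := by
  have hex : ∀ W (hW : Bp W) r, ∃ t, m₁.app _ t = β₁ W hW r ∧ m₂.app _ t = β₂ W hW r := fun W hW r =>
    pair_surjective ((haff W hW).preimage c) m₁ m₂ (by rw [h₁.red_eq, h₂.red_eq])
  choose t ht₁ ht₂ using hex
  have hext : ∀ W (_ : Bp W) (a b : S ζ (c ⁻¹ᵁ W)),
      m₁.app _ a = m₁.app _ b → m₂.app _ a = m₂.app _ b → a = b :=
    fun W hW a b => pair_injective ((haff W hW).preimage c) m₁ m₂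
  let β : ∀ W, Bp W → Γ(Y, W) →+* S ζ (c ⁻¹ᵁ W) := fun W hW =>
    { toFun := t W hW
      map_one' := hext W hW _ _ (by rw [ht₁, map_one, map_one]) (by rw [ht₂, map_one, map_one])
      map_mul' := fun a b => hext W hW _ _ (by rw [ht₁, map_mul, map_mul, ht₁, ht₁])
        (by rw [ht₂, map_mul, map_mul, ht₂, ht₂])
      map_zero' := hext W hW _ _ (by rw [ht₁, map_zero, map_zero]) (by rw [ht₂, map_zero, map_zero])
      map_add' := fun a b => hext W hW _ _ (by rw [ht₁, map_add, map_add, ht₁, ht₁])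
        (by rw [ht₂, map_add, map_add, ht₂, ht₂]) }
  refine ⟨β, ⟨fun W W' hW hW' h r => hext W' hW' _ _ ?_ ?_, fun W hW r => ?_,
    fun W hW a => hext W hW _ _ ?_ ?_⟩, ht₁, ht₂⟩
  · show m₁.app _ (t W' hW' _) = m₁.app _ (rs ζ _ (t W hW r))
    rw [ht₁, m₁.app_rs, ht₁, h₁.res W W' hW hW' h]
  · show m₂.app _ (t W' hW' _) = m₂.app _ (rs ζ _ (t W hW r))
    rw [ht₂, m₂.app_rs, ht₂, h₂.res W W' hW hW' h]
  · show red ζ _ (t W hW r) = _
    rw [← m₁.red_app, ht₁, h₁.red_eq]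
  · show m₁.app _ (t W hW _) = _
    rw [ht₁, h₁.base, m₁.app_sc]
    exact congrArg (sc ξ₁ _) ((pr₁ : dual2 k k ⟶ dual k k).toAlgHom.commutes a).symm
  · show m₂.app _ (t W hW _) = _
    rw [ht₂, h₂.base, m₂.app_sc]
    exact congrArg (sc ξ₂ _) ((pr₂ : dual2 k k ⟶ dual k k).toAlgHom.commutes a).symm

end Combine

/-- The inclusion of a smaller affine open is an open immersion of spectra. -/
theorem isOpenImmersion_specMap_r0 {V W : Y.Opens} (hV : IsAffineOpen V) (hW : IsAffineOpen W) (h : W ≤ V) :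
    IsOpenImmersion (Spec.map (CommRingCat.ofHom (r0 h))) := by
  haveI := hV.isOpenImmersion_fromSpec
  haveI : IsOpenImmersion (Spec.map (CommRingCat.ofHom (r0 h)) ≫ hV.fromSpec) := by
    rw [show Spec.map (CommRingCat.ofHom (r0 h)) ≫ hV.fromSpec = hW.fromSpec from hV.map_fromSpec hW _]
    exact hW.isOpenImmersion_fromSpec
  exact IsOpenImmersion.of_comp _ hV.fromSpec

/-- Ring maps out of the sections over a smaller affine open are determined by their restriction. -/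
theorem r0_ext {V W : Y.Opens} (hV : IsAffineOpen V) (hW : IsAffineOpen W) (h : W ≤ V) {R : Type u}
    [CommRing R] {f g : Γ(Y, W) →+* R} (e : f.comp (r0 h) = g.comp (r0 h)) : f = g := by
  haveI := isOpenImmersion_specMap_r0 hV hW h
  have : Spec.map (CommRingCat.ofHom f) = Spec.map (CommRingCat.ofHom g) := by
    rw [← cancel_mono (Spec.map (CommRingCat.ofHom (r0 h))), ← Spec.map_comp, ← Spec.map_comp,
      ← CommRingCat.ofHom_comp, ← CommRingCat.ofHom_comp, e]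
  exact congrArg CommRingCat.Hom.hom (Spec.map_injective this)

/-- Lifts over an affine open of a smooth scheme. -/
theorem exists_lift [Smooth q] [IsAffineHom c] (hc : c ≫ q = x) (ξ : DefSch X x A) {V : Y.Opens}
    (hV : IsAffineOpen V) :
    ∃ β : ∀ W, IsAffineOpen W ∧ W ≤ V → Γ(Y, W) →+* S ξ (c ⁻¹ᵁ W),
      IsLF q c ξ (fun W => IsAffineOpen W ∧ W ≤ V) β := by
  have hnil : ∀ P : X.Opens, IsAffineOpen P → IsNilpotent (RingHom.ker (red ξ P)) := fun P hP => by
    obtain ⟨n, hn⟩ := (isArtinianRing_iff_isNilpotent_maximalIdeal A).1 inferInstance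
    refine ⟨n, ?_⟩
    have : RingHom.ker (red ξ P) = (maximalIdeal A).map (sc ξ P) := Ideal.ext (red_eq_zero_iff ξ hP)
    rw [this, ← Ideal.map_pow, hn]
    exact Ideal.map_bot
  have hscal : ∀ W (a : k), c.app W (H24Def.scalar q W a) = H24Def.scalar x (c ⁻¹ᵁ W) a := fun W a => by
    rw [Scheme.Hom.app_eq_appLE]
    exact H28Def.appLE_scalar (RingHom.id k) c x q
      (by rw [hc, CommRingCat.ofHom_id, Spec.map_id, Category.comp_id]) _ _ _ a
  -- the lift on `V`
  obtain ⟨ψ, hψred, hψbase⟩ : ∃ ψ : Γ(Y, V) →+* S ξ (c ⁻¹ᵁ V), (∀ r, red ξ _ (ψ r) = c.app V r) ∧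
      ∀ a, ψ (H24Def.scalar q V a) = sc ξ _ (algebraMap k A a) := by
    letI : Algebra k Γ(Y, V) := (H24Def.scalar q V).toAlgebra
    letI : Algebra k (S ξ (c ⁻¹ᵁ V)) := ((sc ξ _).comp (algebraMap k A)).toAlgebra
    letI : Algebra k Γ(X, c ⁻¹ᵁ V) := (H24Def.scalar x (c ⁻¹ᵁ V)).toAlgebra
    haveI : Algebra.FormallySmooth k Γ(Y, V) := by
      have h1 : Smooth (Spec.map (CommRingCat.ofHom (H24Def.scalar q V))) := by
        haveI := hV.isOpenImmersion_fromSpec
        rw [← H28Def.fromSpec_comp q hV]; infer_instance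
      exact (RingHom.smooth_algebraMap.mp ((HasRingHomProperty.Spec_iff (P := @Smooth)).mp h1)).formallySmooth
    let g : S ξ (c ⁻¹ᵁ V) →ₐ[k] Γ(X, c ⁻¹ᵁ V) :=
      { red ξ _ with
        commutes' := fun a => by
          show red ξ _ (sc ξ _ (algebraMap k A a)) = H24Def.scalar x _ a
          rw [red_sc, A.res.commutes]
          rfl }
    let f : Γ(Y, V) →ₐ[k] Γ(X, c ⁻¹ᵁ V) := { (c.app V).hom with commutes' := hscal V }
    let L := Algebra.FormallySmooth.liftOfSurjective f g (red_surjective ξ (hV.preimage c))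
      (hnil _ (hV.preimage c))
    exact ⟨L.toRingHom, fun r => Algebra.FormallySmooth.liftOfSurjective_apply f g _ _ r, fun a => L.commutes a⟩
  have hres : ∀ W (h : W ≤ V) (r : Γ(Y, V)),
      r0 (c.preimage_mono h) (c.app V r) = c.app W (r0 h r) := fun W h r =>
    (ConcreteCategory.congr_hom (c.naturality (homOfLE h).op) r).symm
  have hex : ∀ W, IsAffineOpen W ∧ W ≤ V →
      ∃ β : Γ(Y, W) →+* S ξ (c ⁻¹ᵁ W), ∀ (h : W ≤ V) r, β (r0 h r) = rs ξ (c.preimage_mono h) (ψ r) := by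
    rintro W ⟨hW, h⟩
    haveI := isOpenImmersion_specMap_r0 hV hW h
    let g := Spec.map (CommRingCat.ofHom ((rs ξ (c.preimage_mono h)).comp ψ))
    have hsur : ∀ p : Spec (CommRingCat.of (S ξ (c ⁻¹ᵁ W))),
        ∃ p', Spec.map (CommRingCat.ofHom (red ξ (c ⁻¹ᵁ W))) p' = p := by
      intro p
      have h1 : Set.range (PrimeSpectrum.comap (red ξ (c ⁻¹ᵁ W))) = Set.univ := by
        rw [_root_.range_comap_of_surjective _ _ (red_surjective ξ (hW.preimage c)),
          PrimeSpectrum.zeroLocus_eq_univ_iff]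
        intro a ha
        obtain ⟨n, hn⟩ := hnil _ (hW.preimage c)
        refine ⟨n, ?_⟩
        have := Ideal.pow_mem_pow ha n
        rwa [hn, Ideal.zero_eq_bot, Ideal.mem_bot] at this
      exact h1.ge (Set.mem_univ p)
    have hrange : Set.range g ⊆ Set.range (Spec.map (CommRingCat.ofHom (r0 h))) := by
      rintro _ ⟨p, rfl⟩
      obtain ⟨p', rfl⟩ := hsur p
      have e : Spec.map (CommRingCat.ofHom (red ξ (c ⁻¹ᵁ W))) ≫ g =
          Spec.map (c.app W) ≫ Spec.map (CommRingCat.ofHom (r0 h)) := by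
        rw [← Spec.map_comp, ← Spec.map_comp, ← CommRingCat.ofHom_comp]
        congr 1
        ext r
        show red ξ _ (rs ξ _ (ψ r)) = c.app W (r0 h r)
        rw [red_rs, hψred, hres]
      exact ⟨Spec.map (c.app W) p', (congr($(e) p')).symm⟩
    refine ⟨(Spec.preimage (IsOpenImmersion.lift (Spec.map (CommRingCat.ofHom (r0 h))) g hrange)).hom,
      fun h' r => ?_⟩
    have e := IsOpenImmersion.lift_fac (Spec.map (CommRingCat.ofHom (r0 h))) g hrange
    rw [← Spec.map_preimage (IsOpenImmersion.lift (Spec.map (CommRingCat.ofHom (r0 h))) g hrange),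
      ← Spec.map_comp] at e
    exact congr($(Spec.map_injective e) r)
  choose β hβ using hex
  refine ⟨β, fun W W' hW hW' h r => ?_, fun W hW r => ?_, fun W hW a => ?_⟩
  · refine congr($(r0_ext hV hW.1 hW.2
      (f := (β W' hW').comp (r0 h)) (g := (rs ξ (c.preimage_mono h)).comp (β W hW)) ?_) r)
    ext s
    show β W' hW' (r0 h (r0 hW.2 s)) = rs ξ _ (β W hW (r0 hW.2 s))
    rw [hβ W hW hW.2, rs_rs,
      show r0 h (r0 hW.2 s) = r0 hW'.2 s from
        (ConcreteCategory.comp_apply _ _ _).symm.trans (by rw [← Functor.map_comp]; rfl),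
      hβ W' hW' hW'.2]
  · refine congr($(r0_ext hV hW.1 hW.2 (f := (red ξ _).comp (β W hW)) (g := (c.app W).hom) ?_) r)
    ext s
    show red ξ _ (β W hW (r0 hW.2 s)) = c.app W (r0 hW.2 s)
    rw [hβ W hW hW.2, red_rs, hψred, hres]
  · have e : H24Def.scalar q W a = r0 hW.2 (H24Def.scalar q V a) := (H24Def.map_scalar q hW.2 a).symm
    rw [e, hβ W hW hW.2, hψbase, rs_sc]

end Groth.Agent.H24DefTan
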