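import Groth.Agent.H24DefTan.Diff
import Groth.Agent.LeadBC.Cech
import Groth.Agent.H24Art.Tangent
import Groth.Agent.H28Def.DefFunctor

/-!
# Čech cocycles of first order deformations
-/

set_option autoImplicit false
set_option linter.style.haveILetI false

universe u

open CategoryTheory CategoryTheory.Limits AlgebraicGeometry IsLocalRing ArtFun ArtFun.Art Opposite
open TopologicalSpace

noncomputable section

namespace Groth.Agent.H24DefTan

open Groth.Agent.H15Site Groth.Agent.LeadBC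

variable {k : Type u} [Field k] {X Y : Scheme.{u}} [X.Over (Spec (CommRingCat.of k))]
variable (q : Y ⟶ specPt k) [QuasiSeparated q] (c : X ⟶ Y) [IsAffineHom c]
variable {ι : Type u} (V : ι → Y.Opens)

/-- The structure map. -/
abbrev str (k : Type u) [Field k] (X : Scheme.{u}) [X.Over (Spec (CommRingCat.of k))] : X ⟶ specPt k :=
  X ↘ Spec (CommRingCat.of k)

/-- The cover of the closed fibre. -/
abbrev cov : ι → X.Opens := fun j => c ⁻¹ᵁ V j

theorem preimage_cap {n : ℕ} (a : Fin (n + 1) → ι) : CechTop.cap (cov c V) a = c ⁻¹ᵁ CechTop.cap V a :=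
  le_antisymm
    (fun z hz => by
      have h : ∀ i, z ∈ cov c V (a i) := fun i => (iInf_le (fun i => cov c V (a i)) i) hz
      show c z ∈ CechTop.cap V a
      rw [CechTop.cap, ← Finset.inf_univ_eq_iInf]
      refine Finset.inf_induction (p := fun W : Y.Opens => c z ∈ W) trivial (fun A hA B hB => ⟨hA, hB⟩) fun i _ => h i)
    (le_iInf fun i => c.preimage_mono (iInf_le _ i))

theorem isAffineOpen_cap [Y.IsSeparated] (hV : ∀ j, IsAffineOpen (V j)) {n : ℕ} (a : Fin (n + 1) → ι) :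
    IsAffineOpen (CechTop.cap V a) :=
  IsAffineOpen.iInf fun _ => hV _

/-- Affine opens inside one of the cover. -/
abbrev Bp (j : ι) (W : Y.Opens) : Prop := IsAffineOpen W ∧ W ≤ V j

theorem preimage_le_cov {j : ι} {W : Y.Opens} (h : Bp V j W) : c ⁻¹ᵁ W ≤ cov c V j :=
  c.preimage_mono h.2

theorem preimage_le_cap {a : Fin 2 → ι} {W : Y.Opens} (h₀ : Bp V (a 0) W) (h₁ : Bp V (a 1) W) :
    c ⁻¹ᵁ W ≤ CechTop.cap (cov c V) a :=
  le_iInf fun i => by
    fin_cases i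
    · exact preimage_le_cov c V h₀
    · exact preimage_le_cov c V h₁

/-- One-cochains of derivations. -/
abbrev C1 : Type u := Kp k (cov c V) (G q c) 1

variable {q c V}

theorem val_smul_sect {P : X.Opens} (r : Γ(X, P)) (s : Γ(G q c, P)) (W : Y.Opens) (h : c ⁻¹ᵁ W ≤ P)
    (t : Γ(Y, W)) : val q c (r • s) W h t = r0 h r * val q c s W h t := by
  let F := (Scheme.Modules.pullback c).obj (Omega.sheaf q)
  let M := Coh.structureModule X
  have e : H06Lift.homVal c (OmegaSh.dOmega q) M (r • s) W t =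
      H06Lift.rO X (inf_le_right : c ⁻¹ᵁ W ⊓ P ≤ P) r • H06Lift.homVal c (OmegaSh.dOmega q) M s W t := by
    simp only [H06Lift.homVal]
    rw [H06Lift.rM_smul]
    exact LinearMap.congr_fun (map_smul (H29Ref.toLinₗ _ _ _) _ _) _
  show OmegaSh.fnSect X _ (H06Lift.rM M _ (H06Lift.rM M _ (H06Lift.homVal c (OmegaSh.dOmega q) M (r • s) W t))) = _
  rw [e, H06Lift.rM_smul, H06Lift.rM_smul, H06Lift.rO_rO, H06Lift.rO_rO]
  rfl

theorem val_smul {P : X.Opens} (a : k) (s : Γ(G q c, P)) (W : Y.Opens) (h : c ⁻¹ᵁ W ≤ P) (t : Γ(Y, W)) :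
    val q c (show Γ(G q c, P) from a • (show sec k (G q c) P from s)) W h t =
      H24Def.scalar (str k X) (c ⁻¹ᵁ W) a * val q c s W h t := by
  refine (val_smul_sect (LeadBC.sc k P a) s W h t).trans ?_
  congr 1
  exact H24Def.map_scalar (str k X) h a

/-- The values of a section of the scalar-restricted module. -/
def cval (q : Y ⟶ specPt k) [QuasiSeparated q] (c : X ⟶ Y) {P : X.Opens} (s : LeadBC.sec k (G q c) P) (W : Y.Opens)
    (h : c ⁻¹ᵁ W ≤ P) : Γ(Y, W) →+ Γ(X, c ⁻¹ᵁ W) :=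
  val q c (show Γ(G q c, P) from s) W h

theorem cval_add {P : X.Opens} (s t : LeadBC.sec k (G q c) P) (W : Y.Opens) (h : c ⁻¹ᵁ W ≤ P) (r : Γ(Y, W)) :
    cval q c (s + t) W h r = cval q c s W h r + cval q c t W h r :=
  val_add _ _ W h r

theorem cval_neg {P : X.Opens} (s : LeadBC.sec k (G q c) P) (W : Y.Opens) (h : c ⁻¹ᵁ W ≤ P) (r : Γ(Y, W)) :
    cval q c (-s) W h r = -cval q c s W h r :=
  val_neg _ W h r

theorem cval_zero {P : X.Opens} (W : Y.Opens) (h : c ⁻¹ᵁ W ≤ P) (r : Γ(Y, W)) :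
    cval q c (0 : LeadBC.sec k (G q c) P) W h r = 0 :=
  val_zero W h r

theorem cval_smul {P : X.Opens} (a : k) (s : LeadBC.sec k (G q c) P) (W : Y.Opens) (h : c ⁻¹ᵁ W ≤ P)
    (r : Γ(Y, W)) : cval q c (a • s) W h r = H24Def.scalar (str k X) (c ⁻¹ᵁ W) a * cval q c s W h r :=
  val_smul a _ W h r

theorem cval_resL {P P' : X.Opens} (e : P' ≤ P) (s : LeadBC.sec k (G q c) P) (W : Y.Opens) (h : c ⁻¹ᵁ W ≤ P')
    (r : Γ(Y, W)) : cval q c (resL k (G q c) e s) W h r = cval q c s W (h.trans e) r :=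
  congr($(val_rM e (show Γ(G q c, P) from s) W h) r)

theorem val_ext' [Y.IsSeparated] (hV : ∀ j, IsAffineOpen (V j)) {n : ℕ} (a : Fin (n + 1) → ι)
    {s t : Γ(G q c, CechTop.cap (cov c V) a)}
    (h : ∀ r, val q c s (CechTop.cap V a) (preimage_cap c V a).ge r =
      val q c t (CechTop.cap V a) (preimage_cap c V a).ge r) : s = t := by
  have e := preimage_cap c V a
  have h1 := val_ext (isAffineOpen_cap V hV a)
    (s := (G q c).presheaf.map (homOfLE e.ge).op s) (t := (G q c).presheaf.map (homOfLE e.ge).op t)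
    (fun r => by rw [val_rM, val_rM]; exact h r)
  have h2 := congrArg ((G q c).presheaf.map (homOfLE e.le).op) h1
  have hid : ∀ z : Γ(G q c, CechTop.cap (cov c V) a),
      (G q c).presheaf.map (homOfLE e.le).op ((G q c).presheaf.map (homOfLE e.ge).op z) = z := fun z =>
    (H06Lift.rM_rM (M := G q c) e.ge e.le z).trans (H06Lift.rM_self (M := G q c) _ z)
  rwa [hid, hid] at h2

variable (q c V)

/-- `v` records the differences of a system of lifts. -/
def HasDiff (ξ : DefSch X (str k X) (dual k k)) (β : ∀ j W, Bp V j W → Γ(Y, W) →+* S ξ (c ⁻¹ᵁ W))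
    (v : C1 q c V) : Prop :=
  (∀ j, IsLF q c ξ (Bp V j) (β j)) ∧
    ∀ (a : Fin 2 → ι) (W : Y.Opens) (h₀ : Bp V (a 0) W) (h₁ : Bp V (a 1) W) (r : Γ(Y, W)),
      β (a 1) W h₁ r = β (a 0) W h₀ r +
        emb ξ (h₀.1.preimage c) (cval q c (v a) W (preimage_le_cap c V h₀ h₁) r)

/-- The class `t` has lifts with differences `v`. -/
def Rel (t : TangentSpace (defFunctor (Λ := k) X (str k X))) (v : C1 q c V) : Prop :=
  ∃ (ξ : DefSch X (str k X) (dual k k)) (β : ∀ j W, Bp V j W → Γ(Y, W) →+* S ξ (c ⁻¹ᵁ W)),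
    ξ.cl = t ∧ HasDiff q c V ξ β v

variable {q c V} [Y.IsSeparated] (hV : ∀ j, IsAffineOpen (V j))

include hV in
/-- Every class has lifts. -/
theorem rel_total [Smooth q] (hc : c ≫ q = str k X) (t : TangentSpace (defFunctor (Λ := k) X (str k X))) :
    ∃ v : C1 q c V, Rel q c V t v := by
  obtain ⟨ξ, rfl⟩ := Quotient.exists_rep t
  choose β hβ using fun j => exists_lift (q := q) (c := c) hc ξ (hV j)
  have hex : ∀ a : Fin 2 → ι, ∃ s : Γ(G q c, CechTop.cap (cov c V) a),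
      ∀ (W : Y.Opens) (h₀ : Bp V (a 0) W) (h₁ : Bp V (a 1) W) (r : Γ(Y, W)),
        β (a 1) W h₁ r = β (a 0) W h₀ r + emb ξ (h₀.1.preimage c) (val q c s W (preimage_le_cap c V h₀ h₁) r) := by
    intro a
    have hcap := isAffineOpen_cap V hV a
    have hle : ∀ i, CechTop.cap V a ≤ V (a i) := fun i => iInf_le _ i
    obtain ⟨s, hs⟩ := exists_diff (Bp := fun W => IsAffineOpen W ∧ W ≤ CechTop.cap V a) hcap (fun W h => h.1)
      ⟨hcap, le_rfl⟩ (fun W h => h.2)
      ((hβ (a 0)).mono (Bp' := fun W => IsAffineOpen W ∧ W ≤ CechTop.cap V a) fun W h => ⟨h.1, h.2.trans (hle 0)⟩)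
      ((hβ (a 1)).mono (Bp' := fun W => IsAffineOpen W ∧ W ≤ CechTop.cap V a) fun W h => ⟨h.1, h.2.trans (hle 1)⟩)
    refine ⟨(G q c).presheaf.map (homOfLE (preimage_cap c V a).le).op s, fun W h₀ h₁ r => ?_⟩
    have hW : W ≤ CechTop.cap V a := le_iInf fun i => by fin_cases i; exacts [h₀.2, h₁.2]
    rw [val_rM]
    exact hs W ⟨h₀.1, hW⟩ r
  choose v hv using hex
  exact ⟨v, ξ, β, rfl, hβ, hv⟩

include hV in
/-- The differences form a cocycle. -/
theorem dK_eq_zero {t : TangentSpace (defFunctor (Λ := k) X (str k X))} {v : C1 q c V}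
    (h : Rel q c V t v) : dK k (cov c V) (G q c) 1 v = 0 := by
  obtain ⟨ξ, β, -, -, hd⟩ := h
  funext a
  have hW := isAffineOpen_cap V hV a
  have hB : ∀ i, Bp V (a i) (CechTop.cap V a) := fun i => ⟨hW, iInf_le _ i⟩
  refine val_ext' hV a fun r => emb_injective ξ (hW.preimage c) ?_
  show emb ξ _ (cval q c (dK k (cov c V) (G q c) 1 v a) (CechTop.cap V a) _ r) =
    emb ξ _ (cval q c (0 : LeadBC.sec k (G q c) (CechTop.cap (cov c V) a)) (CechTop.cap V a) _ r)
  rw [dK_apply, Fin.sum_univ_three]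
  simp only [Fin.val_zero, pow_zero, one_smul, Fin.val_one, pow_one, neg_smul, Fin.val_two, neg_one_sq]
  rw [cval_add, cval_add, cval_neg, cval_zero, cval_resL, cval_resL, cval_resL, map_add, map_add, map_neg, map_zero]
  have d0 := hd (a ∘ (0 : Fin 3).succAbove) _ (hB _) (hB _) r
  have d1 := hd (a ∘ (1 : Fin 3).succAbove) _ (hB _) (hB _) r
  have d2 := hd (a ∘ (2 : Fin 3).succAbove) _ (hB _) (hB _) r
  have e00 : (a ∘ (0 : Fin 3).succAbove) 0 = a 1 := rfl
  have e01 : (a ∘ (0 : Fin 3).succAbove) 1 = a 2 := rfl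
  have e10 : (a ∘ (1 : Fin 3).succAbove) 0 = a 0 := rfl
  have e11 : (a ∘ (1 : Fin 3).succAbove) 1 = a 2 := rfl
  have e20 : (a ∘ (2 : Fin 3).succAbove) 0 = a 0 := rfl
  have e21 : (a ∘ (2 : Fin 3).succAbove) 1 = a 1 := rfl
  have hb : ∀ (i j : ι) {hi : Bp V i (CechTop.cap V a)} (hj : Bp V j (CechTop.cap V a)), i = j →
      β i _ hi r = β j _ hj r := by rintro i j hi hj rfl; rfl
  rw [hb _ _ (hB 2) e01, hb _ _ (hB 1) e00] at d0
  rw [hb _ _ (hB 2) e11, hb _ _ (hB 0) e10] at d1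
  rw [hb _ _ (hB 1) e21, hb _ _ (hB 0) e20] at d2
  linear_combination d1 - d0 - d2

omit [Y.IsSeparated] in
theorem rel_smul (a : k) [TangentStr (defFunctor (Λ := k) X (str k X))]
    {t : TangentSpace (defFunctor (Λ := k) X (str k X))} {v : C1 q c V}
    (h : Rel q c V t v) : Rel q c V (a • t) (a • v) := by
  obtain ⟨ξ, β, rfl, hlf, hd⟩ := h
  let m : Mor (scale a) ξ (ξ.baseChange (scale a)) := Mor.ofIso (DefSch.Iso.refl _)
  refine ⟨ξ.baseChange (scale a), fun j W hW => (m.app _).comp (β j W hW), ?_, fun j => (hlf j).map m,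
    fun b W h₀ h₁ r => ?_⟩
  · exact (TangentStr.smul_eq a (ξ.cl : (defFunctor (Λ := k) X (str k X)).obj (dual k k))).symm
  · show m.app _ _ = m.app _ _ + emb _ _ (cval q c (a • v b) W _ r)
    rw [hd b W h₀ h₁, map_add, app_scale_emb, cval_smul]

omit [Y.IsSeparated] in
theorem rel_add [TangentStr (defFunctor (Λ := k) X (str k X))]
    {t t' : TangentSpace (defFunctor (Λ := k) X (str k X))} {v v' : C1 q c V}
    (h : Rel q c V t v) (h' : Rel q c V t' v') : Rel q c V (t + t') (v + v') := by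
  obtain ⟨ξ₁, β₁, rfl, hlf₁, hd₁⟩ := h
  obtain ⟨ξ₂, β₂, rfl, hlf₂, hd₂⟩ := h'
  obtain ⟨z, hz₁, hz₂⟩ := H24Art.exists_dual2 (H28Def.h0_defFunctor (Λ := k) (X := X) (x := str k X))
    (H28Def.heps_defFunctor (Λ := k) (X := X) (x := str k X)) ξ₁.cl ξ₂.cl
  obtain ⟨ζ, rfl⟩ := Quotient.exists_rep z
  obtain ⟨e₁⟩ := Quotient.exact hz₁
  obtain ⟨e₂⟩ := Quotient.exact hz₂
  let m₁ := Mor.ofIso e₁
  let m₂ := Mor.ofIso e₂
  let m₃ : Mor plus ζ (ζ.baseChange plus) := Mor.ofIso (DefSch.Iso.refl _)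
  choose β hβ hβ₁ hβ₂ using fun j => exists_combine m₁ m₂ (fun W (h : Bp V j W) => h.1) (hlf₁ j) (hlf₂ j)
  refine ⟨ζ.baseChange plus, fun j W hW => (m₃.app _).comp (β j W hW), ?_, fun j => (hβ j).map m₃,
    fun b W h₀ h₁ r => ?_⟩
  · refine (((TangentStr.add_eq (F := defFunctor (Λ := k) X (str k X)) ζ.cl)).symm.trans ?_)
    exact congrArg₂ (fun a b : TangentSpace (defFunctor (Λ := k) X (str k X)) => a + b) hz₁ hz₂
  · have hP := h₀.1.preimage c
    show m₃.app _ _ = m₃.app _ _ + emb _ _ (cval q c (v b + v' b) W _ r)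
    rw [← sub_eq_iff_eq_add', ← map_sub, cval_add]
    refine plus_emb hP m₁ m₂ m₃ ?_ ?_
    · rw [map_sub, hβ₁, hβ₁, hd₁ b W h₀ h₁, add_sub_cancel_left]
    · rw [map_sub, hβ₂, hβ₂, hd₂ b W h₀ h₁, add_sub_cancel_left]

omit [Y.IsSeparated] in
theorem rel_add_coboundary {t : TangentSpace (defFunctor (Λ := k) X (str k X))} {v : C1 q c V}
    (h : Rel q c V t v) (y : Kp k (cov c V) (G q c) 0) :
    Rel q c V t (v + dK k (cov c V) (G q c) 0 y) := by
  obtain ⟨ξ, β, rfl, hlf, hd⟩ := h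
  have hle : ∀ j : ι, cov c V j ≤ CechTop.cap (cov c V) (fun _ : Fin 1 => j) := fun j => le_iInf fun _ => le_rfl
  choose γ hγ hγ' using fun j => exists_add (ξ := ξ) (P := CechTop.cap (cov c V) (fun _ : Fin 1 => j))
    (fun W (h : Bp V j W) => h.1) (fun W h => (preimage_le_cov c V h).trans (hle j)) (hlf j)
    (show Γ(G q c, _) from y (fun _ => j))
  refine ⟨ξ, γ, rfl, hγ, fun b W h₀ h₁ r => ?_⟩
  rw [hγ', hγ', hd b W h₀ h₁]
  have e0 : (b ∘ (0 : Fin 2).succAbove) = fun _ => b 1 := funext fun i => by fin_cases i; rfl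
  have e1 : (b ∘ (1 : Fin 2).succAbove) = fun _ => b 0 := funext fun i => by fin_cases i; rfl
  have hy : ∀ (a a' : Fin 1 → ι) (ha : a = a') (p : c ⁻¹ᵁ W ≤ CechTop.cap (cov c V) a)
      (p' : c ⁻¹ᵁ W ≤ CechTop.cap (cov c V) a'),
      cval q c (y a) W p r = cval q c (y a') W p' r := by
    rintro a _ rfl p p'; rfl
  show _ = _ + emb ξ _ (cval q c (v b + dK k (cov c V) (G q c) 0 y b) W _ r)
  rw [dK_apply, Fin.sum_univ_two]
  simp only [Fin.val_zero, pow_zero, one_smul, Fin.val_one, pow_one, neg_smul]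
  rw [cval_add, cval_add, cval_neg, cval_resL, cval_resL,
    hy _ _ e0 _ ((preimage_le_cov c V h₁).trans (hle _)),
    hy _ _ e1 _ ((preimage_le_cov c V h₀).trans (hle _))]
  show _ = _ + emb ξ _ (_ + (val q c (show Γ(G q c, _) from y fun _ => b 1) W _ r +
    -val q c (show Γ(G q c, _) from y fun _ => b 0) W _ r))
  rw [map_add, map_add, map_neg]
  ring

end Groth.Agent.H24DefTan
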