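import Groth.Agent.H24DefTan.Finite
import Groth.Agent.H28Def.DefAut
import Groth.Agent.H28Def.DefFunctor
import Groth.Agent.H24Art.Prorep
import Groth.Agent.H26Smooth.ProjSmooth
import Groth.Agent.H27Weil.Geometry
import Groth.Prelude.Def_CohB1

/-!
# Prorepresentability of the deformation functor of a projective scheme without vector fields
-/

set_option autoImplicit false
set_option linter.style.haveILetI false

universe u

open CategoryTheory CategoryTheory.Limits AlgebraicGeometry IsLocalRing ArtFun ArtFun.Art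

namespace Groth.Agent.H24DefTan

theorem hfin_of_projective {k : Type u} [Field k] (X : Scheme.{u}) (x : X ⟶ specPt k)
    (hproj : ∃ (n : ℕ) (c : X ⟶ CohB1.ProjSpaceOver n (Spec (CommRingCat.of k))),
      IsClosedImmersion c ∧ c ≫ CohB1.ProjSpaceOver.toBase n (Spec (CommRingCat.of k)) = x)
    [T : TangentStr (defFunctor (Λ := k) X x)] : Hfin (defFunctor (Λ := k) X x) := by
  obtain ⟨n, c, hc, hcx⟩ := hproj
  subst hcx
  letI : X.Over (Spec (CommRingCat.of k)) := ⟨c ≫ CohB1.ProjSpaceOver.toBase n (Spec (CommRingCat.of k))⟩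
  letI : (CohB1.ProjSpaceOver n (Spec (CommRingCat.of k))).Over (Spec (CommRingCat.of k)) :=
    ⟨CohB1.ProjSpaceOver.toBase n (Spec (CommRingCat.of k))⟩
  haveI := hc
  haveI : IsProper (str k (CohB1.ProjSpaceOver n (Spec (CommRingCat.of k)))) :=
    H27Weil.isProper_toBase n (Spec (CommRingCat.of k))
  haveI : Smooth (str k (CohB1.ProjSpaceOver n (Spec (CommRingCat.of k)))) :=
    H26Smooth.smooth_toBase n (Spec (CommRingCat.of k))
  haveI : TangentStr (defFunctor (Λ := k) X (str k X)) := T
  have hc0 : c ≫ str k (CohB1.ProjSpaceOver n (Spec (CommRingCat.of k))) = str k X := rfl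
  show @Hfin k k _ _ _ (defFunctor (Λ := k) X (str k X)) T
  exact @finite_tangentSpace k _ X (CohB1.ProjSpaceOver n (Spec (CommRingCat.of k))) _ _ c _ T _ _ hc0

/-- A projective scheme without vector fields has a prorepresentable deformation functor. -/
theorem isProrepresentable_of_subsingleton {k : Type u} [Field k] (X : Scheme.{u}) (x : X ⟶ specPt k)
    [QuasiSeparated x]
    (hproj : ∃ (n : ℕ) (c : X ⟶ CohB1.ProjSpaceOver n (Spec (CommRingCat.of k))),
      IsClosedImmersion c ∧ c ≫ CohB1.ProjSpaceOver.toBase n (Spec (CommRingCat.of k)) = x)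
    (h0 : Subsingleton (Omega.sheaf x ⟶ Coh.structureModule X)) :
    IsProrepresentable (defFunctor (Λ := k) X x) := by
  have hk : Function.Surjective (algebraMap k k) := fun a => ⟨a, rfl⟩
  have hh0 := H28Def.h0_defFunctor (Λ := k) (X := X) (x := x)
  have h2 := H28Def.heps_defFunctor (Λ := k) (X := X) (x := x)
  obtain ⟨T⟩ := H24Art.nonempty_tangentStr (F := defFunctor (Λ := k) X x) hh0 h2
  have H : ∀ (A' A : Art k k) (p : A' ⟶ A) (ξ' : DefSch X x A'),
      Function.Surjective (fun e : ξ'.Iso ξ' => e.baseChange p) := fun A' A p ξ' e' =>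
    ⟨DefSch.Iso.refl ξ', H28Def.iso_ext
      ((H24DefAut.endo_eq_id (ξ'.baseChange p) _ (DefSch.Iso.hom_f _) (DefSch.Iso.i_hom _) h0).trans
        (H24DefAut.endo_eq_id (ξ'.baseChange p) _ e'.hom_f e'.i_hom h0).symm)⟩
  exact H24Art.isProrepresentable_of_conditions hh0 H28Def.s1_defFunctor h2
    (hfin_of_projective X x hproj)
    (fun B A A' p₁ p₂ f h hf => ⟨H28Def.injective_cmp_of_lift h hf.1 (H A' A f),
      H28Def.surjective_cmp h hf.1⟩)
    (H24Art.hc_of_subsingleton (H24Art.subsingleton_derivation_of_surjective hk))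

end Groth.Agent.H24DefTan
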