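import Groth.Agent.H24DefAut.Rigid

/-!
# Sections of a deformation over the opens of the closed fibre
-/

set_option autoImplicit false
set_option linter.style.haveILetI false

universe u

open CategoryTheory CategoryTheory.Limits AlgebraicGeometry IsLocalRing ArtFun ArtFun.Art Opposite
open TopologicalSpace

noncomputable section

namespace Groth.Agent.H24DefTan

open Groth.Agent.H24DefAut

variable {k : Type u} [Field k] {X : Scheme.{u}} {x : X ⟶ specPt k} {A B : Art k k}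

theorem isHomeomorph_i (ξ : DefSch X x A) : IsHomeomorph ξ.i := by
  haveI := (H28Def.isClosedImmersion_i ξ).1
  exact isHomeomorph_iff_isEmbedding_surjective.2
    ⟨ξ.i.isClosedEmbedding.isEmbedding, (H28Def.isClosedImmersion_i ξ).2⟩

/-- The open of the total space over an open of the closed fibre. -/
def up (ξ : DefSch X x A) (P : X.Opens) : ξ.total.Opens :=
  ⟨ξ.i '' (P : Set X), (isHomeomorph_i ξ).isOpenMap _ P.2⟩

theorem preimage_up (ξ : DefSch X x A) (P : X.Opens) : ξ.i ⁻¹ᵁ up ξ P = P :=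
  Opens.ext (Set.preimage_image_eq _ (isHomeomorph_i ξ).injective)

theorem up_mono (ξ : DefSch X x A) {P Q : X.Opens} (h : P ≤ Q) : up ξ P ≤ up ξ Q :=
  le_of_preimage_le ξ (by rwa [preimage_up, preimage_up])

theorem isAffineOpen_up (ξ : DefSch X x A) {P : X.Opens} (hP : IsAffineOpen P) : IsAffineOpen (up ξ P) := by
  obtain ⟨U, hU⟩ := exists_affine_preimage_eq ξ ⟨P, hP⟩
  have : U.1 = up ξ P :=
    le_antisymm (le_of_preimage_le ξ (by rw [hU, preimage_up])) (le_of_preimage_le ξ (by rw [hU, preimage_up]))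
  exact this ▸ U.2

/-- Sections of a deformation over an open of the closed fibre. -/
abbrev S (ξ : DefSch X x A) (P : X.Opens) : Type u := Γ(ξ.total, up ξ P)

/-- Restriction to the closed fibre. -/
def red (ξ : DefSch X x A) (P : X.Opens) : S ξ P →+* Γ(X, P) :=
  (ξ.i.appLE (up ξ P) P (preimage_up ξ P).ge).hom

/-- Restriction. -/
def rs (ξ : DefSch X x A) {P Q : X.Opens} (h : Q ≤ P) : S ξ P →+* S ξ Q :=
  (ξ.total.presheaf.map (homOfLE (up_mono ξ h)).op).hom

/-- Restriction on the closed fibre. -/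
abbrev r0 {Y : Scheme.{u}} {P Q : Y.Opens} (h : Q ≤ P) : Γ(Y, P) →+* Γ(Y, Q) :=
  (Y.presheaf.map (homOfLE h).op).hom

theorem rs_rs (ξ : DefSch X x A) {P Q R : X.Opens} (h : Q ≤ P) (h' : R ≤ Q) (r : S ξ P) :
    rs ξ h' (rs ξ h r) = rs ξ (h'.trans h) r := by
  show (ξ.total.presheaf.map _ ≫ ξ.total.presheaf.map _) r = _
  rw [← Functor.map_comp]
  rfl

theorem rs_self (ξ : DefSch X x A) {P : X.Opens} (r : S ξ P) : rs ξ (le_refl P) r = r := by
  show ξ.total.presheaf.map (𝟙 _) r = r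
  rw [ξ.total.presheaf.map_id]
  rfl

theorem red_rs (ξ : DefSch X x A) {P Q : X.Opens} (h : Q ≤ P) (r : S ξ P) :
    red ξ Q (rs ξ h r) = r0 h (red ξ P r) := by
  show (ξ.total.presheaf.map _ ≫ ξ.i.appLE _ _ _) r = (ξ.i.appLE _ _ _ ≫ X.presheaf.map _) r
  rw [Scheme.Hom.map_appLE, Scheme.Hom.appLE_map]

/-- The scalars. -/
abbrev sc (ξ : DefSch X x A) (P : X.Opens) : A →+* S ξ P := H24Def.scalar ξ.f (up ξ P)

theorem rs_sc (ξ : DefSch X x A) {P Q : X.Opens} (h : Q ≤ P) (a : A) :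
    rs ξ h (sc ξ P a) = sc ξ Q a :=
  H24Def.map_scalar ξ.f (up_mono ξ h) a

theorem red_sc (ξ : DefSch X x A) (P : X.Opens) (a : A) :
    red ξ P (sc ξ P a) = H24Def.scalar x P (A.res a) :=
  H28Def.appLE_scalar A.res.toRingHom ξ.i x ξ.f ξ.isPullback.w _ _ _ a

theorem red_surjective (ξ : DefSch X x A) {P : X.Opens} (hP : IsAffineOpen P) :
    Function.Surjective (red ξ P) :=
  (appLE_i_spec ξ (isAffineOpen_up ξ hP) (preimage_up ξ P)).1

theorem red_eq_zero_iff (ξ : DefSch X x A) {P : X.Opens} (hP : IsAffineOpen P) (r : S ξ P) :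
    red ξ P r = 0 ↔ r ∈ (maximalIdeal A).map (sc ξ P) :=
  (appLE_i_spec ξ (isAffineOpen_up ξ hP) (preimage_up ξ P)).2 r

theorem mem_of_mul_mem (ξ : DefSch X x A) {P : X.Opens} (hP : IsAffineOpen P) {J : Ideal A} {t : A}
    (ht : ∀ a, a * t ∈ J ↔ a ∈ maximalIdeal A) {r : S ξ P} (h : sc ξ P t * r ∈ J.map (sc ξ P)) :
    red ξ P r = 0 := by
  rw [red_eq_zero_iff ξ hP]
  letI := (sc ξ P).toAlgebra
  haveI : Module.Flat A (S ξ P) := H24Def.flat_scalar ξ.f (isAffineOpen_up ξ hP)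
  exact H24Def.mem_map_of_mul_mem_map ht h

/-- A map of deformations over a map of the bases. -/
structure Mor (g : A ⟶ B) (ξ : DefSch X x A) (ξ' : DefSch X x B) : Type u where
  /-- the map of total spaces -/
  hom : ξ'.total ⟶ ξ.total
  hom_f : hom ≫ ξ.f = ξ'.f ≫ specMap g
  i_hom : ξ'.i ≫ hom = ξ.i

namespace Mor

variable {g : A ⟶ B} {ξ : DefSch X x A} {ξ' : DefSch X x B} (m : Mor g ξ ξ')

theorem up_le (P : X.Opens) : up ξ' P ≤ m.hom ⁻¹ᵁ up ξ P :=
  le_of_preimage_le ξ' (by rw [preimage_up, ← Scheme.Hom.comp_preimage, m.i_hom, preimage_up])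

/-- The map on sections. -/
def app (P : X.Opens) : S ξ P →+* S ξ' P := (m.hom.appLE (up ξ P) (up ξ' P) (m.up_le P)).hom

theorem app_sc (P : X.Opens) (a : A) : m.app P (sc ξ P a) = sc ξ' P (g a) :=
  H28Def.appLE_scalar g.toAlgHom.toRingHom m.hom ξ'.f ξ.f m.hom_f _ _ _ a

theorem red_app (P : X.Opens) (r : S ξ P) : red ξ' P (m.app P r) = red ξ P r := by
  show (m.hom.appLE _ _ _ ≫ ξ'.i.appLE _ _ _) r = ξ.i.appLE _ _ _ r
  rw [Scheme.Hom.appLE_comp_appLE]
  simp only [m.i_hom]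

theorem app_rs {P Q : X.Opens} (h : Q ≤ P) (r : S ξ P) : m.app Q (rs ξ h r) = rs ξ' h (m.app P r) := by
  show (ξ.total.presheaf.map _ ≫ m.hom.appLE _ _ _) r = (m.hom.appLE _ _ _ ≫ ξ'.total.presheaf.map _) r
  rw [Scheme.Hom.map_appLE, Scheme.Hom.appLE_map]

end Mor

/-- The projection from a base change. -/
def Mor.ofIso {g : A ⟶ B} {ξ : DefSch X x A} {ξ' : DefSch X x B} (e : (ξ.baseChange g).Iso ξ') :
    Mor g ξ ξ' where
  hom := e.iso.inv ≫ pullback.fst ξ.f (specMap g)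
  hom_f := by
    rw [Category.assoc, pullback.condition, ← Category.assoc]
    exact congrArg (· ≫ specMap g) e.symm.hom_f
  i_hom := by
    rw [← Category.assoc]
    exact (congrArg (· ≫ pullback.fst ξ.f (specMap g)) e.symm.i_hom).trans (DefSch.baseChange_i_fst ξ g)

end Groth.Agent.H24DefTan
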